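import Cfsg.Agent.Lib.JankoRecog.Search
import Mathlib.Algebra.BigOperators.Ring.Finset
import Mathlib.Algebra.Order.BigOperators.Group.Finset
import Mathlib.Algebra.Order.BigOperators.Ring.Finset
import Mathlib.Algebra.Order.Field.Rat
import Mathlib.Tactic.FieldSimp
import Mathlib.Tactic.NormNum
import Mathlib.Tactic.IntervalCases

/-!
# The multiplicities of the three induced functions
-/

set_option autoImplicit false

namespace Cfsg.Agent.JankoRecog

/-- Three constituents with their signed degrees and signed values. -/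
structure Triple (k : ℤ) (q r d : Fin 3 → ℤ) : Prop where
  kpos : 0 < k
  qsum : q 0 + q 1 + q 2 = 2
  qsq : q 0 * q 0 + q 1 * q 1 + q 2 * q 2 ≤ 8
  rle : ∀ i, -1 ≤ r i ∧ r i ≤ 1
  rsum : r 0 + r 1 + r 2 = 0
  rq : r 0 * q 0 + r 1 * q 1 + r 2 * q 2 = 0
  rsq : r 0 * r 0 + r 1 * r 1 + r 2 * r 2 ≤ 2
  rd : ∀ i j, i ≠ j → r i ≠ 0 → r j ≠ 0 → d i = d j
  dsum : d 0 + d 1 + d 2 = -1
  dmod : ∀ i, (d i - (3 * q i - 5 + 4 * r i)) % 8 = 0
  done : ∀ i, 1 < |d i|
  dtwo : ∀ i, d i ≠ 3 * q i - 5 + 4 * r i
  hsq : d 0 * d 0 + d 1 * d 1 + d 2 * d 2 ≤ 120 * k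
  eqn : k * num (3 * q 0 - 5 + 4 * r 0) (3 * q 1 - 5 + 4 * r 1) (3 * q 2 - 5 + 4 * r 2) (d 0) (d 1) (d 2) =
    720 * (d 0 * d 1 * d 2)

variable {k : ℤ} {q r d : Fin 3 → ℤ}

theorem Triple.ne_zero (h : Triple k q r d) (i : Fin 3) : d i ≠ 0 := by
  intro e
  have := h.done i
  rw [e] at this
  norm_num at this

theorem Triple.of_perm (h : Triple k q r d) (i j l : Fin 3) (hij : i ≠ j) (hil : i ≠ l) (hjl : j ≠ l) :
    Triple k ![q i, q j, q l] ![r i, r j, r l] ![d i, d j, d l] := by
  obtain ⟨h1, h2, h3, h4, h5, h6, h7, h8, h9, h10, h11, h12, h13, h14⟩ := h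
  have tf : ∀ (P : Fin 3 → Prop), P i → P j → P l → ∀ x, P x := fun P a b c x => by
    fin_cases i <;> fin_cases j <;> fin_cases l <;> fin_cases x <;>
      first | exact absurd rfl hij | exact absurd rfl hil | exact absurd rfl hjl | assumption
  refine ⟨h1, ?_, ?_, ?_, ?_, ?_, ?_, ?_, ?_, ?_, ?_, ?_, ?_, ?_⟩
  case refine_3 => intro x; fin_cases x <;> exact h4 _
  case refine_7 =>
    intro x y hxy a b
    fin_cases x <;> fin_cases y <;> first | exact absurd rfl hxy | exact h8 _ _ (by assumption) a b |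
      exact h8 _ _ (Ne.symm (by assumption)) a b
  case refine_9 => intro x; fin_cases x <;> exact h10 _
  case refine_10 => intro x; fin_cases x <;> exact h11 _
  case refine_11 => intro x; fin_cases x <;> exact h12 _
  all_goals
    simp only [Matrix.cons_val_zero, Matrix.cons_val_one, Matrix.cons_val]
    fin_cases i <;> fin_cases j <;> fin_cases l <;>
      first
        | exact absurd rfl hij
        | exact absurd rfl hil
        | exact absurd rfl hjl
        | (simp only [num_eq] at *; simp only [Fin.zero_eta, Fin.mk_one, Fin.reduceFinMk] at *; linarith)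

/-- No quotient one modulo thirty. -/
theorem Triple.mod_ne_sorted (h : Triple k q r d) (h01 : q 1 ≤ q 0) (h12 : q 2 ≤ q 1) : k % 30 ≠ 1 := by
  obtain ⟨hk, hq, hq2, hr, hrs, hrq, hr2, hrd, hd, hm, h1, hne, hs, he⟩ := h
  have b0 : q 0 ≤ 2 ∧ -2 ≤ q 2 := by constructor <;> nlinarith
  have num_ne : ∀ p0 p1 p2 : ℤ, k * num p0 p1 p2 (d 0) (d 1) (d 2) = 720 * (d 0 * d 1 * d 2) →
      num p0 p1 p2 (d 0) (d 1) (d 2) ≠ 0 := by
    intro p0 p1 p2 e hz
    rw [hz, mul_zero] at e
    have hprod : d 0 * d 1 * d 2 = 0 := by linarith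
    have n0 : d 0 ≠ 0 := fun e => by have := h1 0; rw [e] at this; norm_num at this
    have n1 : d 1 ≠ 0 := fun e => by have := h1 1; rw [e] at this; norm_num at this
    have n2 : d 2 ≠ 0 := fun e => by have := h1 2; rw [e] at this; norm_num at this
    exact mul_ne_zero (mul_ne_zero n0 n1) n2 hprod
  have hne' := num_ne _ _ _ he
  obtain ⟨r0a, r0b⟩ := hr 0
  obtain ⟨r1a, r1b⟩ := hr 1
  obtain ⟨r2a, r2b⟩ := hr 2
  have m0 := hm 0
  have m1 := hm 1
  have m2 := hm 2
  have n0 := hne 0
  have n1 := hne 1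
  have n2 := hne 2
  obtain ⟨e0, e1, e2⟩ | ⟨e0, e1, e2⟩ | ⟨e0, e1, e2⟩ :
      (q 0 = 2 ∧ q 1 = 0 ∧ q 2 = 0) ∨ (q 0 = 1 ∧ q 1 = 1 ∧ q 2 = 0) ∨ (q 0 = 2 ∧ q 1 = 1 ∧ q 2 = -1) := by
    have ha : q 0 = 0 ∨ q 0 = 1 ∨ q 0 = 2 := by omega
    have hc : q 2 = -2 ∨ q 2 = -1 ∨ q 2 = 0 := by omega
    rcases ha with a | a | a <;> rcases hc with c | c | c <;> rw [a, c] at hq2 <;>
      first | omega | (exfalso; nlinarith)
  · -- two private constituents
    have z0 : r 0 = 0 := by rw [e0, e1, e2] at hrq; linarith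
    simp only [e0, e1, e2, z0] at he hne' m0 m1 m2 n0 n1 n2
    have hcases : r 1 = 0 ∨ r 1 = 1 ∨ r 1 = -1 := by omega
    rcases hcases with z1 | z1 | z1
    · have z2 : r 2 = 0 := by omega
      simp only [z1, z2] at he hne' m1 m2
      norm_num at he hne' m0 m1 m2
      exact no_one_five_five hk he hne' hd hs (by omega) (by omega) (by omega) (h1 0)
    · have z2 : r 2 = -1 := by omega
      have ed : d 2 = d 1 := (hrd 1 2 (by decide) (by omega) (by omega)).symm
      simp only [z1, z2, ed] at he hne'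
      rw [z1] at m1
      simp only [ed] at hd hs
      norm_num at he hne' m0 m1
      exact no_one_one_nine hk he hne' hd hs (by omega) (by omega) (h1 0)
    · have z2 : r 2 = 1 := by omega
      have ed : d 2 = d 1 := (hrd 1 2 (by decide) (by omega) (by omega)).symm
      simp only [z1, z2, ed] at he hne'
      rw [z1] at m1
      simp only [ed] at hd hs
      norm_num at he hne' m0 m1
      refine no_one_one_nine hk (by rw [num_eq] at *; linarith) ?_ hd hs (by omega) (by omega) (h1 0)
      intro hz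
      apply hne'
      rw [num_eq] at *
      linarith
  · -- two of weight one
    have z2 : r 2 = 0 := by rw [e0, e1, e2] at hrq; linarith
    simp only [e0, e1, e2, z2] at he hne' m0 m1 m2 n0 n1 n2
    have hcases : r 0 = 0 ∨ r 0 = 1 ∨ r 0 = -1 := by omega
    rcases hcases with z0 | z0 | z0
    · have z1 : r 1 = 0 := by omega
      simp only [z0, z1] at he hne' m0 m1 n0 n1
      norm_num at he hne' m0 m1 m2 n0 n1
      have a0 := h1 0
      have a1 := h1 1
      refine no_two_two_five hk he hne' hd hs (by omega) (by omega) (by omega) ?_ ?_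
      · rcases abs_cases (d 0) with ⟨e, -⟩ | ⟨e, -⟩ <;> omega
      · rcases abs_cases (d 1) with ⟨e, -⟩ | ⟨e, -⟩ <;> omega
    · have z1 : r 1 = -1 := by omega
      have ed : d 1 = d 0 := (hrd 0 1 (by decide) (by omega) (by omega)).symm
      simp only [z0, z1, ed] at he hne'
      simp only [z0] at m0 n0
      simp only [ed] at hd hs
      norm_num at he hne' m0 n0
      have a0 := h1 0
      refine no_two_six_five hk he hne' hd hs (by omega) ?_
      rcases abs_cases (d 0) with ⟨e, -⟩ | ⟨e, -⟩ <;> omega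
    · have z1 : r 1 = 1 := by omega
      have ed : d 1 = d 0 := (hrd 0 1 (by decide) (by omega) (by omega)).symm
      simp only [z0, z1, ed] at he hne'
      simp only [z1, ed] at m1 n1
      simp only [ed] at hd hs
      norm_num at he hne' m1 n1
      have a0 := h1 0
      refine no_two_six_five hk (by rw [num_eq] at *; linarith) ?_ hd hs (by omega) ?_
      · intro hz
        apply hne'
        rw [num_eq] at *
        linarith
      · rcases abs_cases (d 0) with ⟨e, -⟩ | ⟨e, -⟩ <;> omega
  · -- three different weights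
    have hz : r 0 = 0 ∧ r 1 = 0 ∧ r 2 = 0 := by
      rw [e0, e1, e2] at hrq
      have hcases : r 2 = 0 ∨ r 2 = 1 ∨ r 2 = -1 := by omega
      omega
    simp only [e0, e1, e2, hz.1, hz.2.1, hz.2.2] at he hne' m0 m1 m2 n1
    norm_num at he hne' m0 m1 m2 n1
    have a1 := h1 1
    refine no_one_two_eight hk he hne' hd hs (by omega) (by omega) (by omega) (h1 0) ?_ ?_
    · rcases abs_cases (d 1) with ⟨e, -⟩ | ⟨e, -⟩ <;> omega
    · intro e; have := h1 2; rw [e] at this; norm_num at this

theorem Triple.mod_ne (h : Triple k q r d) : k % 30 ≠ 1 := by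
  have sorted : ∀ i j l : Fin 3, i ≠ j → i ≠ l → j ≠ l → q j ≤ q i → q l ≤ q j → k % 30 ≠ 1 :=
    fun i j l h1 h2 h3 a b => (h.of_perm i j l h1 h2 h3).mod_ne_sorted a b
  rcases le_total (q 1) (q 0) with a | a <;> rcases le_total (q 2) (q 1) with b | b <;>
    rcases le_total (q 2) (q 0) with c | c
  · exact sorted 0 1 2 (by decide) (by decide) (by decide) a b
  · exact sorted 0 1 2 (by decide) (by decide) (by decide) a b
  · exact sorted 0 2 1 (by decide) (by decide) (by decide) c b
  · exact sorted 2 0 1 (by decide) (by decide) (by decide) c a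
  · exact sorted 1 0 2 (by decide) (by decide) (by decide) a c
  · exact sorted 1 2 0 (by decide) (by decide) (by decide) b c
  · exact sorted 2 1 0 (by decide) (by decide) (by decide) b a
  · exact sorted 2 1 0 (by decide) (by decide) (by decide) b a

variable {ι : Type*} [Fintype ι] [DecidableEq ι]

/-- The hypotheses on the multiplicities. -/
structure Mult (deg T E C : ι → ℤ) (o : ι) : Prop where
  pos : ∀ i, 0 < deg i
  dego : deg o = 1
  one : ∀ i, deg i = 1 → i = o
  TT : ∑ i, T i * T i = 2
  TC : ∑ i, T i * C i = 0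
  TE : ∑ i, T i * E i = 0
  EE : ∑ i, E i * E i = 12
  EC : ∑ i, E i * C i = 4
  CC : ∑ i, C i * C i = 4
  To : T o = 0
  Eo : E o = 2
  Co : C o = 1
  T1 : ∑ i, T i * deg i = 0
  C1 : ∑ i, C i * deg i = 0
  congr : ∀ i, (deg i - (4 * T i + 3 * E i - 5 * C i)) % 8 = 0
  full : ∀ i, deg i = 4 * T i + 3 * E i - 5 * C i → i = o

theorem abs_le_one_of_sq {x : ℤ} (h : x * x ≤ 3) : -1 ≤ x ∧ x ≤ 1 := by constructor <;> nlinarith

/-- The equation contradicts a quotient one modulo thirty. -/
theorem Mult.mod_ne {deg T E C : ι → ℤ} {o : ι} (h : Mult deg T E C o) {k : ℤ} (hk : 0 < k)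
    (hsq : ∑ i, deg i * deg i = 120 * k)
    (heq : ∑ i, (C i : ℚ) * ((4 * T i + 3 * E i - 5 * C i : ℤ) : ℚ) ^ 2 / (deg i : ℚ) = 720 / (k : ℚ)) :
    k % 30 ≠ 1 := by
  have herase : ∀ f : ι → ℤ, ∑ i, f i = f o + ∑ i ∈ Finset.univ.erase o, f i := fun f =>
    (Finset.add_sum_erase _ f (Finset.mem_univ o)).symm
  have hC3 : ∑ i ∈ Finset.univ.erase o, C i * C i = 3 := by
    have e := h.CC
    rw [herase, h.Co] at e
    linarith
  have hv : ∀ i, i ≠ o → C i = 0 ∨ C i = 1 ∨ C i = -1 := fun i hi => by
    have h1 : C i * C i ≤ 3 := hC3 ▸ Finset.single_le_sum (f := fun j => C j * C j) (fun j _ => mul_self_nonneg _)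
      (Finset.mem_erase.2 ⟨hi, Finset.mem_univ i⟩)
    have := abs_le_one_of_sq h1
    omega
  set S := (Finset.univ.erase o).filter fun i => C i ≠ 0 with hS
  have hcard : S.card = 3 := by
    have e : ∑ i ∈ Finset.univ.erase o, C i * C i = ∑ i ∈ Finset.univ.erase o, if C i ≠ 0 then (1 : ℤ) else 0 :=
      Finset.sum_congr rfl fun i hi => by
        rcases hv i (Finset.ne_of_mem_erase hi) with q | q | q <;> simp [q]
    rw [e, Finset.sum_boole, ← hS] at hC3
    exact_mod_cast hC3
  obtain ⟨a, b, c, hab, hac, hbc, hSe⟩ := Finset.card_eq_three.1 hcard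
  have hmem : ∀ i ∈ ({a, b, c} : Finset ι), i ≠ o ∧ C i * C i = 1 := by
    intro i hi
    rw [← hSe] at hi
    obtain ⟨hi1, hi2⟩ := Finset.mem_filter.1 hi
    refine ⟨Finset.ne_of_mem_erase hi1, ?_⟩
    rcases hv i (Finset.ne_of_mem_erase hi1) with q | q | q <;> simp [q] at hi2 ⊢
  obtain ⟨hao, hca⟩ := hmem a (by simp)
  obtain ⟨hbo, hcb⟩ := hmem b (by simp)
  obtain ⟨hco, hcc⟩ := hmem c (by simp)
  have hoff : ∀ i, i ≠ o → i ≠ a → i ≠ b → i ≠ c → C i = 0 := by
    intro i h1 h2 h3 h4
    by_contra h5
    have : i ∈ S := Finset.mem_filter.2 ⟨Finset.mem_erase.2 ⟨h1, Finset.mem_univ i⟩, h5⟩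
    rw [hSe] at this
    simp [h2, h3, h4] at this
  have four : ∀ {R : Type} [AddCommMonoid R] (F : ι → R), (∀ i, i ≠ o → i ≠ a → i ≠ b → i ≠ c → F i = 0) →
      ∑ i, F i = F o + (F a + (F b + F c)) := by
    intro R _ F hF
    rw [← Finset.sum_subset (Finset.subset_univ ({o, a, b, c} : Finset ι)) fun i _ hi => by
        simp only [Finset.mem_insert, Finset.mem_singleton, not_or] at hi
        exact hF i hi.1 hi.2.1 hi.2.2.1 hi.2.2.2,
      Finset.sum_insert (by simp [hao.symm, hbo.symm, hco.symm]), Finset.sum_insert (by simp [hab, hac]),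
      Finset.sum_pair hbc]
  have fourC : ∀ f : ι → ℤ, ∑ i, C i * f i = f o + (C a * f a + (C b * f b + C c * f c)) := fun f => by
    rw [four (fun i => C i * f i) fun i h1 h2 h3 h4 => by rw [hoff i h1 h2 h3 h4, zero_mul], h.Co, one_mul]
  have le4 : ∀ f : ι → ℤ, f o * f o + f a * f a + f b * f b + f c * f c ≤ ∑ i, f i * f i := fun f => by
    have := Finset.sum_le_univ_sum_of_nonneg (s := ({o, a, b, c} : Finset ι)) (f := fun i => f i * f i)
      fun i => mul_self_nonneg _
    rw [Finset.sum_insert (by simp [hao.symm, hbo.symm, hco.symm]), Finset.sum_insert (by simp [hab, hac]),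
      Finset.sum_pair hbc] at this
    linarith
  have hqs : C a * E a + C b * E b + C c * E c = 2 := by
    have := fourC E
    rw [h.Eo, show ∑ i, C i * E i = 4 by rw [← h.EC]; exact Finset.sum_congr rfl fun i _ => mul_comm _ _] at this
    linarith
  have hrs : C a * T a + C b * T b + C c * T c = 0 := by
    have := fourC T
    rw [h.To, show ∑ i, C i * T i = 0 by rw [← h.TC]; exact Finset.sum_congr rfl fun i _ => mul_comm _ _] at this
    linarith
  have hds : C a * deg a + C b * deg b + C c * deg c = -1 := by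
    have := fourC deg
    rw [h.dego, h.C1] at this
    linarith
  have hE8 : E a * E a + E b * E b + E c * E c ≤ 8 := by
    have := le4 E
    rw [h.EE, h.Eo] at this
    linarith
  have hT2 : T a * T a + T b * T b + T c * T c ≤ 2 := by
    have := le4 T
    rw [h.TT, h.To] at this
    linarith
  have hTb : ∀ i, -1 ≤ T i ∧ T i ≤ 1 := fun i => abs_le_one_of_sq (le_trans (Finset.single_le_sum
    (f := fun j => T j * T j) (fun j _ => mul_self_nonneg _) (Finset.mem_univ i)) (by rw [h.TT]; norm_num))
  -- two constituents of `T` inside carry the whole of `T`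
  have pair : ∀ i j, i ∈ ({a, b, c} : Finset ι) → j ∈ ({a, b, c} : Finset ι) → i ≠ j → T i ≠ 0 → T j ≠ 0 →
      T j = -T i ∧ deg i = deg j ∧ ∀ l, l ≠ i → l ≠ j → T l = 0 := by
    intro i j hi hj hij ti tj
    have hsum : ∑ l ∈ ({i, j} : Finset ι), T l * T l = 2 := by
      rw [Finset.sum_pair hij]
      obtain ⟨i1, i2⟩ := hTb i
      obtain ⟨j1, j2⟩ := hTb j
      rcases (show T i = 1 ∨ T i = -1 by omega) with e | e <;> rcases (show T j = 1 ∨ T j = -1 by omega) with e' | e' <;>
        simp [e, e']
    have hl : ∀ l, l ≠ i → l ≠ j → T l = 0 := by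
      intro l li lj
      have h0 : ∑ x ∈ Finset.univ \ ({i, j} : Finset ι), T x * T x = 0 := by
        have := Finset.sum_sdiff (f := fun x => T x * T x) (Finset.subset_univ ({i, j} : Finset ι))
        rw [h.TT, hsum] at this
        linarith
      have := (Finset.sum_eq_zero_iff_of_nonneg fun x _ => mul_self_nonneg (T x)).1 h0 l (by simp [li, lj])
      exact mul_self_eq_zero.1 this
    have hd : T i * deg i + T j * deg j = 0 := by
      rw [← h.T1, ← Finset.sum_subset (Finset.subset_univ ({i, j} : Finset ι)) fun l _ hl' => by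
        simp only [Finset.mem_insert, Finset.mem_singleton, not_or] at hl'
        rw [hl l hl'.1 hl'.2, zero_mul], Finset.sum_pair hij]
    have := h.pos i
    have := h.pos j
    obtain ⟨i1, i2⟩ := hTb i
    obtain ⟨j1, j2⟩ := hTb j
    refine ⟨?_, ?_, hl⟩ <;>
      rcases (show T i = 1 ∨ T i = -1 by omega) with e | e <;> rcases (show T j = 1 ∨ T j = -1 by omega) with e' | e' <;>
        rw [e, e'] at hd <;> omega
  have hrq : C a * T a * (C a * E a) + C b * T b * (C b * E b) + C c * T c * (C c * E c) = 0 := by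
    have e : C a * T a * (C a * E a) + C b * T b * (C b * E b) + C c * T c * (C c * E c) =
        T a * E a + T b * E b + T c * E c := by
      linear_combination (T a * E a) * hca + (T b * E b) * hcb + (T c * E c) * hcc
    rw [e]
    by_cases h0 : T a = 0 ∧ T b = 0 ∧ T c = 0
    · rw [h0.1, h0.2.1, h0.2.2]; ring
    · have hz : ∀ l, l ≠ a → l ≠ b → l ≠ c → T l = 0 := by
        intro l la lb lc
        by_cases ha : T a = 0
        · by_cases hb : T b = 0
          · exfalso
            rw [ha, hb] at hrs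
            have : C c * T c = 0 := by linarith
            rcases mul_eq_zero.1 this with q | q
            · rw [q] at hcc; norm_num at hcc
            · exact h0 ⟨ha, hb, q⟩
          · by_cases hc : T c = 0
            · exfalso
              rw [ha, hc] at hrs
              have : C b * T b = 0 := by linarith
              rcases mul_eq_zero.1 this with q | q
              · rw [q] at hcb; norm_num at hcb
              · exact hb q
            · exact (pair b c (by simp) (by simp) hbc hb hc).2.2 l lb lc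
        · by_cases hb : T b = 0
          · by_cases hc : T c = 0
            · exfalso
              rw [hb, hc] at hrs
              have : C a * T a = 0 := by linarith
              rcases mul_eq_zero.1 this with q | q
              · rw [q] at hca; norm_num at hca
              · exact ha q
            · exact (pair a c (by simp) (by simp) hac ha hc).2.2 l la lc
          · exact (pair a b (by simp) (by simp) hab ha hb).2.2 l la lb
      have := h.TE
      rw [four (fun i => T i * E i) fun i _ h2 h3 h4 => by rw [hz i h2 h3 h4, zero_mul], h.To, zero_mul, zero_add,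
        ← add_assoc] at this
      exact this
  have hsame : ∀ i j, i ∈ ({a, b, c} : Finset ι) → j ∈ ({a, b, c} : Finset ι) → i ≠ j → C i * T i ≠ 0 →
      C j * T j ≠ 0 → C i * deg i = C j * deg j := by
    intro i j hi hj hij hti htj
    obtain ⟨e1, e2, e3⟩ := pair i j hi hj hij (right_ne_zero_of_mul hti) (right_ne_zero_of_mul htj)
    -- orthogonality to the third function makes the signs equal
    have hz : T i * C i + T j * C j = 0 := by
      rw [← h.TC, ← Finset.sum_subset (Finset.subset_univ ({i, j} : Finset ι)) fun l _ hl' => by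
        simp only [Finset.mem_insert, Finset.mem_singleton, not_or] at hl'
        rw [e3 l hl'.1 hl'.2, zero_mul], Finset.sum_pair hij]
    rw [e1] at hz
    have : T i * (C i - C j) = 0 := by linarith
    rcases mul_eq_zero.1 this with q | q
    · exact absurd q (right_ne_zero_of_mul hti)
    · rw [e2, show C i = C j by omega]
  have hval : ∀ i ∈ ({a, b, c} : Finset ι),
      3 * (C i * E i) - 5 + 4 * (C i * T i) = C i * (4 * T i + 3 * E i - 5 * C i) := fun i hi => by
    linear_combination (5 : ℤ) * (hmem i hi).2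
  have hsgn : ∀ i ∈ ({a, b, c} : Finset ι), C i = 1 ∨ C i = -1 := fun i hi =>
    mul_self_eq_one_iff.1 (hmem i hi).2
  have hone : ∀ i ∈ ({a, b, c} : Finset ι), 1 < |C i * deg i| := fun i hi => by
    have := h.pos i
    have : deg i ≠ 1 := fun e => (hmem i hi).1 (h.one i e)
    rcases hsgn i hi with e | e <;> rw [e]
    · rw [one_mul, abs_of_pos (h.pos i)]; omega
    · rw [neg_one_mul, abs_neg, abs_of_pos (h.pos i)]; omega
  have hnf : ∀ i ∈ ({a, b, c} : Finset ι), C i * deg i ≠ 3 * (C i * E i) - 5 + 4 * (C i * T i) := by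
    intro i hi e
    rw [hval i hi] at e
    exact (hmem i hi).1 (h.full i (mul_left_cancel₀ (fun q => by have := (hmem i hi).2; rw [q] at this; norm_num at this) e))
  have hmod : ∀ i ∈ ({a, b, c} : Finset ι), (C i * deg i - (3 * (C i * E i) - 5 + 4 * (C i * T i))) % 8 = 0 := by
    intro i hi
    rw [hval i hi, ← mul_sub]
    exact Int.emod_eq_zero_of_dvd (Dvd.dvd.mul_left (Int.dvd_of_emod_eq_zero (h.congr i)) _)
  have hrle : ∀ i ∈ ({a, b, c} : Finset ι), -1 ≤ C i * T i ∧ C i * T i ≤ 1 := fun i hi => by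
    have := hTb i
    rcases hsgn i hi with e | e <;> rw [e] <;> omega
  have ma : a ∈ ({a, b, c} : Finset ι) := by simp
  have mb : b ∈ ({a, b, c} : Finset ι) := by simp
  have mc : c ∈ ({a, b, c} : Finset ι) := by simp
  refine Triple.mod_ne (q := ![C a * E a, C b * E b, C c * E c]) (r := ![C a * T a, C b * T b, C c * T c])
    (d := ![C a * deg a, C b * deg b, C c * deg c]) ⟨hk, ?_, ?_, ?_, ?_, ?_, ?_, ?_, ?_, ?_, ?_, ?_, ?_, ?_⟩
  case refine_3 => intro x; fin_cases x <;> first | exact hrle a ma | exact hrle b mb | exact hrle c mc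
  case refine_7 =>
    intro x y hxy tx ty
    fin_cases x <;> fin_cases y <;> first
      | exact absurd rfl hxy
      | exact hsame a b ma mb hab tx ty
      | exact hsame a c ma mc hac tx ty
      | exact hsame b a mb ma hab.symm tx ty
      | exact hsame b c mb mc hbc tx ty
      | exact hsame c a mc ma hac.symm tx ty
      | exact hsame c b mc mb hbc.symm tx ty
  case refine_9 => intro x; fin_cases x <;> first | exact hmod a ma | exact hmod b mb | exact hmod c mc
  case refine_10 => intro x; fin_cases x <;> first | exact hone a ma | exact hone b mb | exact hone c mc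
  case refine_11 => intro x; fin_cases x <;> first | exact hnf a ma | exact hnf b mb | exact hnf c mc
  all_goals simp only [Matrix.cons_val_zero, Matrix.cons_val_one, Matrix.cons_val]
  · linarith
  · calc _ = C a * C a * (E a * E a) + C b * C b * (E b * E b) + C c * C c * (E c * E c) := by ring
      _ ≤ 8 := by rw [hca, hcb, hcc]; linarith
  · exact hrs
  · exact hrq
  · calc _ = C a * C a * (T a * T a) + C b * C b * (T b * T b) + C c * C c * (T c * T c) := by ring
      _ ≤ 2 := by rw [hca, hcb, hcc]; linarith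
  · exact hds
  · have := le4 deg
    rw [hsq, h.dego] at this
    calc _ = C a * C a * (deg a * deg a) + C b * C b * (deg b * deg b) + C c * C c * (deg c * deg c) := by ring
      _ ≤ 120 * k := by rw [hca, hcb, hcc]; linarith
  · rw [hval a ma, hval b mb, hval c mc]
    rw [four _ fun i h1 h2 h3 h4 => by rw [hoff i h1 h2 h3 h4]; simp, h.To, h.Eo, h.Co, h.dego] at heq
    have ka : (deg a : ℚ) ≠ 0 := by exact_mod_cast (h.pos a).ne'
    have kb : (deg b : ℚ) ≠ 0 := by exact_mod_cast (h.pos b).ne'
    have kc : (deg c : ℚ) ≠ 0 := by exact_mod_cast (h.pos c).ne'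
    have kk : (k : ℚ) ≠ 0 := by exact_mod_cast hk.ne'
    rw [num_eq]
    generalize hA : 4 * T a + 3 * E a - 5 * C a = A at *
    generalize hB : 4 * T b + 3 * E b - 5 * C b = B at *
    generalize hCc : 4 * T c + 3 * E c - 5 * C c = D at *
    field_simp at heq
    have hq : (((k : ℤ) * (deg a * deg b * deg c + C a * A ^ 2 * (deg b * deg c) + C b * B ^ 2 * (deg a * deg c) +
        C c * D ^ 2 * (deg a * deg b)) : ℤ) : ℚ) = ((720 * (deg a * deg b * deg c) : ℤ) : ℚ) := by
      push_cast at heq ⊢
      linarith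
    have hz : k * (deg a * deg b * deg c + C a * A ^ 2 * (deg b * deg c) + C b * B ^ 2 * (deg a * deg c) +
        C c * D ^ 2 * (deg a * deg b)) = 720 * (deg a * deg b * deg c) := by exact_mod_cast hq
    rcases hsgn a ma with ea | ea <;> rcases hsgn b mb with eb | eb <;> rcases hsgn c mc with ec | ec <;>
      rw [ea, eb, ec] at hz ⊢ <;> linarith

end Cfsg.Agent.JankoRecog
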