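import Cfsg.Agent.Lib.JankoRecog.Local

/-!
# Consequences of the amalgam: conjugacy of involutions, restriction, simplicity of the generated group
-/

set_option autoImplicit false
set_option linter.style.haveILetI false

namespace Cfsg.Agent.JankoRecog

open Subgroup
open scoped Pointwise

theorem cycle_identities : cM * α1 * cM⁻¹ = α1 * α3 ∧
    cM * α1 * cM⁻¹ * (z * α3) = z * α1 ∧
    α1 * (cM * α1 * cM⁻¹) = z * (z * (α1 * (cM * α1 * cM⁻¹))) ∧
    cM * α1 * cM⁻¹ * (z * α1) = z * (cM * α1 * cM⁻¹) * α1 ∧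
    z * α1 * (α1 * (cM * α1 * cM⁻¹)) = z * (cM * α1 * cM⁻¹) := by decide +kernel

set_option maxHeartbeats 2000000 in
theorem no_odd_normal : ∀ n : M, ((n * n * n = 1 ∨ n * n * n * n * n = 1) ∧ n ≠ 1) →
    ∃ a b : M, (n * (a * n * a⁻¹) * (b * n * b⁻¹)) * (n * (a * n * a⁻¹) * (b * n * b⁻¹)) = 1 ∧
      n * (a * n * a⁻¹) * (b * n * b⁻¹) ≠ 1 := by
  decide +kernel

set_option maxHeartbeats 2000000 in
theorem odd_orders : ∀ n : M, n ^ 15 = 1 → n * n * n = 1 ∨ n * n * n * n * n = 1 := by decide +kernel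

theorem invert_facts : inS α1 ∧ inS α3 ∧ inS (α1 * α3) ∧ α3 ≠ 1 ∧ α1 * α3 ≠ 1 := by decide +kernel

theorem α2_conj : ∃ m : M, m * α1 * m⁻¹ = α2 := by decide +kernel

variable {G : Type*} [Group G]

/-- An involution without fixed points on an invariant finite subgroup inverts it. -/
theorem inverts_of_no_fixed [Finite G] (X : Subgroup G) {s : G} (hs : s * s = 1) (hX : ∀ x ∈ X, s * x * s ∈ X)
    (hfix : ∀ x ∈ X, s * x = x * s → x = 1) : ∀ x ∈ X, s * x * s = x⁻¹ := by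
  have hsi : s⁻¹ = s := inv_eq_of_mul_eq_one_right hs
  let F : X → X := fun x => ⟨(x : G)⁻¹ * (s * x * s), mul_mem (inv_mem x.2) (hX _ x.2)⟩
  have hF : Function.Injective F := by
    intro a b h
    have h' : (a : G)⁻¹ * (s * a * s) = (b : G)⁻¹ * (s * b * s) := congrArg Subtype.val h
    refine Subtype.ext ?_
    have := hfix _ (mul_mem b.2 (inv_mem a.2)) (by
      have e : s * ((b : G) * (a : G)⁻¹) * s⁻¹ = (b : G) * (a : G)⁻¹ := by
        calc s * ((b : G) * (a : G)⁻¹) * s⁻¹ = (s * b * s) * (s * a * s)⁻¹ := by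
              rw [mul_inv_rev, mul_inv_rev, hsi]; simp only [← mul_assoc]
              rw [mul_assoc (s * (b : G)) s s, hs, mul_one]
          _ = (b : G) * ((b : G)⁻¹ * (s * b * s)) * ((a : G) * ((a : G)⁻¹ * (s * a * s)))⁻¹ := by group
          _ = (b : G) * (a : G)⁻¹ := by rw [h']; group
      exact (eq_mul_inv_iff_mul_eq.1 (eq_mul_inv_iff_mul_eq.2 (mul_inv_eq_iff_eq_mul.1 e))))
    exact (mul_inv_eq_one.1 this).symm
  intro x hx
  obtain ⟨y, hy⟩ := (Finite.injective_iff_surjective.1 hF) ⟨x, hx⟩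
  have hy' : (y : G)⁻¹ * (s * y * s) = x := congrArg Subtype.val hy
  rw [← hy', mul_inv_rev, mul_inv_rev, mul_inv_rev, hsi, inv_inv]
  simp only [← mul_assoc]
  rw [mul_assoc _ s s, hs, mul_one]

namespace Amalgam

variable (D : Amalgam G)

set_option maxHeartbeats 800000 in
theorem inS_conj : ∀ m : M, inS m → m ≠ 1 → ∃ i : ℕ, D.g ^ i * D.φ z * (D.g ^ i)⁻¹ = D.φ m := by
  obtain ⟨e1, e3, -, e5, e6⟩ := cycle_identities
  obtain ⟨-, -, i3, -⟩ := cM_sq_identities
  have step : ∀ (i : ℕ) (m : M), D.g ^ i * D.φ z * (D.g ^ i)⁻¹ = D.φ m →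
      D.g ^ (i + 1) * D.φ z * (D.g ^ (i + 1))⁻¹ = D.g * D.φ m * D.g⁻¹ := by
    intro i m h; rw [← h, pow_succ']; group
  have hmul : ∀ a b : M, D.g * D.φ (a * b) * D.g⁻¹ = (D.g * D.φ a * D.g⁻¹) * (D.g * D.φ b * D.g⁻¹) := by
    intro a b; rw [map_mul]; group
  have h0 : D.g ^ 0 * D.φ z * (D.g ^ 0)⁻¹ = D.φ z := by group
  have h1 : D.g ^ 1 * D.φ z * (D.g ^ 1)⁻¹ = D.φ α1 := by rw [pow_one]; exact D.g_z
  have h2 : D.g ^ 2 * D.φ z * (D.g ^ 2)⁻¹ = D.φ (cM * α1 * cM⁻¹) := (step 1 _ h1).trans D.g_α1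
  have gv : D.g * D.φ (cM * α1 * cM⁻¹) * D.g⁻¹ = D.φ (z * α1) := by
    rw [congrArg D.φ e1, hmul, D.g_α1, D.g_α3, ← map_mul, e3]
  have h3 : D.g ^ 3 * D.φ z * (D.g ^ 3)⁻¹ = D.φ (z * α1) := (step 2 _ h2).trans gv
  have h4 : D.g ^ 4 * D.φ z * (D.g ^ 4)⁻¹ = D.φ (α1 * (cM * α1 * cM⁻¹)) :=
    (step 3 _ h3).trans (by rw [hmul, D.g_z, D.g_α1, ← map_mul])
  have h5 : D.g ^ 5 * D.φ z * (D.g ^ 5)⁻¹ = D.φ (z * (cM * α1 * cM⁻¹) * α1) :=
    (step 4 _ h4).trans (by rw [hmul, D.g_α1, gv, ← map_mul, e5])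
  have h6 : D.g ^ 6 * D.φ z * (D.g ^ 6)⁻¹ = D.φ (z * (cM * α1 * cM⁻¹)) :=
    (step 5 _ h5).trans (by rw [hmul, hmul, D.g_z, gv, D.g_α1, ← map_mul, ← map_mul]
                            congr 1; decide +kernel)
  intro m hm hm1
  have := subS_list m hm
  simp only [List.mem_cons, List.not_mem_nil, or_false] at this
  rcases this with rfl | rfl | rfl | rfl | rfl | rfl | rfl | rfl
  exacts [absurd rfl hm1, ⟨_, h0⟩, ⟨_, h1⟩, ⟨_, h2⟩, ⟨_, h3⟩, ⟨_, h4⟩, ⟨_, h5⟩, ⟨_, h6⟩]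

theorem cube : D.g ^ 3 * D.φ z * (D.g ^ 3)⁻¹ = D.φ (z * α1) := by
  rw [show D.g ^ 3 * D.φ z * (D.g ^ 3)⁻¹ = D.g * (D.g * (D.g * D.φ z * D.g⁻¹) * D.g⁻¹) * D.g⁻¹ by
    rw [pow_succ, pow_two]; group, D.g_z, D.g_α1, cycle_identities.1, map_mul,
    show D.g * (D.φ α1 * D.φ α3) * D.g⁻¹ = (D.g * D.φ α1 * D.g⁻¹) * (D.g * D.φ α3 * D.g⁻¹) by group,
    D.g_α1, D.g_α3, ← map_mul, cycle_identities.2.1]

theorem fourth : D.g ^ 4 * D.φ z * (D.g ^ 4)⁻¹ = D.φ (α1 * (cM * α1 * cM⁻¹)) := by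
  rw [show D.g ^ 4 * D.φ z * (D.g ^ 4)⁻¹ = D.g * (D.g ^ 3 * D.φ z * (D.g ^ 3)⁻¹) * D.g⁻¹ by group, D.cube,
    map_mul, show D.g * (D.φ z * D.φ α1) * D.g⁻¹ = (D.g * D.φ z * D.g⁻¹) * (D.g * D.φ α1 * D.g⁻¹) by group,
    D.g_z, D.g_α1, ← map_mul]

theorem g_ne_one : D.g ≠ 1 := by
  intro h
  have := D.g_z
  rw [h, one_mul, inv_one, mul_one] at this
  exact model_involutions.2.2.2.2.2.2 (D.inj this).symm

theorem orderOf_g : orderOf D.g = 7 :=
  haveI : Fact (Nat.Prime 7) := ⟨by norm_num⟩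
  orderOf_eq_prime D.g_pow D.g_ne_one

theorem card_range : Nat.card D.φ.range = 120 := by
  rw [← Nat.card_congr (MonoidHom.ofInjective D.inj).toEquiv, Nat.card_eq_fintype_card, card_M]

include D in
theorem dvd_card : 840 ∣ Nat.card G := by
  have h1 : 120 ∣ Nat.card G := D.card_range ▸ D.φ.range.card_subgroup_dvd_card
  have h2 : 7 ∣ Nat.card G := D.orderOf_g ▸ orderOf_dvd_natCard D.g
  exact Nat.Coprime.mul_dvd_of_dvd_of_dvd (by norm_num : Nat.Coprime 120 7) h1 h2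

/-- All involutions are conjugate to the central one of the model. -/
theorem isConj_of_involution [Finite G] (h2 : (Nat.card G).factorization 2 = 3) {u : G} (hu : u * u = 1)
    (hu1 : u ≠ 1) : ∃ h : G, h * u * h⁻¹ = D.φ z := by
  haveI : Fact (Nat.Prime 2) := ⟨Nat.prime_two⟩
  let S : Sylow 2 G := Sylow.ofCard (subS.map D.φ)
    (by rw [card_map_of_injective D.inj, card_subS, h2]; norm_num)
  obtain ⟨Q, hQ⟩ := (IsPGroup.of_card (p := 2) (n := 1) (G := zpowers u)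
    (by rw [Nat.card_zpowers, orderOf_eq_prime (by rw [pow_two]; exact hu) hu1, pow_one])).exists_le_sylow
  obtain ⟨a, ha⟩ := MulAction.exists_smul_eq G Q S
  have hmem : a * u * a⁻¹ ∈ (S : Subgroup G) := by
    rw [← ha, Sylow.coe_subgroup_smul, mem_pointwise_smul_iff_inv_smul_mem]
    simpa [MulAut.smul_def, mul_assoc] using hQ (mem_zpowers u)
  obtain ⟨m, hm, hma⟩ := hmem
  obtain ⟨i, hi⟩ := D.inS_conj m hm fun h => hu1 (by
    rw [h, map_one] at hma
    exact conj_eq_one_iff.1 hma.symm)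
  exact ⟨(D.g ^ i)⁻¹ * a, by rw [show (D.g ^ i)⁻¹ * a * u * ((D.g ^ i)⁻¹ * a)⁻¹ =
    (D.g ^ i)⁻¹ * (a * u * a⁻¹) * D.g ^ i by group, ← hma, ← hi]; group⟩

/-- The subgroup generated by the five involutions. -/
def gen : Subgroup G := closure (D.gens '' {l | l < 5})

theorem gens_mem_gen {l : ℕ} (hl : l < 5) : D.gens l ∈ D.gen := subset_closure ⟨l, hl, rfl⟩

theorem wv_mem_gen : ∀ w : List ℕ, D.wv w ∈ D.gen := by
  intro w
  induction w with
  | nil => exact one_mem _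
  | cons l w ih =>
    rw [D.wv_cons]
    refine mul_mem ?_ ih
    match l with
    | 0 => exact D.gens_mem_gen (by norm_num)
    | 1 => exact D.gens_mem_gen (by norm_num)
    | 2 => exact D.gens_mem_gen (by norm_num)
    | 3 => exact D.gens_mem_gen (by norm_num)
    | n + 4 => exact D.gens_mem_gen (l := 4) (by norm_num)

theorem g_mem_gen : D.g ∈ D.gen := D.wv_gw ▸ D.wv_mem_gen gw

theorem range_le_gen : D.φ.range ≤ D.gen := by
  rintro _ ⟨m, rfl⟩
  have htop : Subgroup.closure ({z, α1, α2, α3} : Set M) = ⊤ := by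
    rw [eq_top_iff]
    intro x _
    obtain ⟨w, -, rfl⟩ := model_words x
    refine list_prod_mem fun y hy => ?_
    obtain ⟨l, -, rfl⟩ := List.mem_map.1 hy
    refine subset_closure ?_
    match l with
    | 0 => simp [mgen]
    | 1 => simp [mgen]
    | 2 => simp [mgen]
    | n + 3 => simp [mgen]
  have hle : (⊤ : Subgroup M) ≤ D.gen.comap D.φ := by
    rw [← htop, closure_le]
    intro x hx
    simp only [Set.mem_insert_iff, Set.mem_singleton_iff] at hx
    rcases hx with rfl | rfl | rfl | rfl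
    · exact D.gens_mem_gen (l := 0) (by norm_num)
    · exact D.gens_mem_gen (l := 1) (by norm_num)
    · exact D.gens_mem_gen (l := 2) (by norm_num)
    · exact D.gens_mem_gen (l := 3) (by norm_num)
  exact hle (mem_top m)

/-- The amalgam inside a subgroup containing it. -/
def restrict (H : Subgroup G) (hr : D.φ.range ≤ H) (hg : D.g ∈ H) : Amalgam H where
  φ := D.φ.codRestrict H fun m => hr ⟨m, rfl⟩
  inj _ _ h := D.inj (congrArg Subtype.val h)
  range_eq := by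
    ext ⟨x, hx⟩
    rw [MonoidHom.mem_range, mem_centralizer_singleton_iff]
    constructor
    · rintro ⟨m, hm⟩
      rw [← hm, ← map_mul, ← map_mul, z_comm]
    · intro h
      have h' : x ∈ D.φ.range := by
        rw [D.range_eq, mem_centralizer_singleton_iff]; exact congrArg Subtype.val h
      obtain ⟨m, hm⟩ := h'
      exact ⟨m, Subtype.ext hm⟩
  g := ⟨D.g, hg⟩
  g_pow := Subtype.ext D.g_pow
  g_c := Subtype.ext D.g_c
  g_z := Subtype.ext D.g_z
  g_α1 := Subtype.ext D.g_α1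
  g_α3 := Subtype.ext D.g_α3

theorem restrict_gens (H : Subgroup G) (hr : D.φ.range ≤ H) (hg : D.g ∈ H) (l : ℕ) :
    (((D.restrict H hr hg).gens l : H) : G) = D.gens l := by
  match l with
  | 0 => rfl
  | 1 => rfl
  | 2 => rfl
  | 3 => rfl
  | n + 4 => rfl

theorem factorization_restrict [Finite G] (h2 : (Nat.card G).factorization 2 = 3) (H : Subgroup G)
    (hr : D.φ.range ≤ H) (hg : D.g ∈ H) : (Nat.card H).factorization 2 = 3 := by
  refine le_antisymm (h2 ▸ Finsupp.le_def.1 ((Nat.factorization_le_iff_dvd Nat.card_pos.ne'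
    Nat.card_pos.ne').2 H.card_subgroup_dvd_card) 2) ?_
  refine (Nat.prime_two.pow_dvd_iff_le_factorization Nat.card_pos.ne').1 ?_
  exact dvd_trans (by norm_num : 2 ^ 3 ∣ 840) (D.restrict H hr hg).dvd_card

/-- The generated group is simple. -/
theorem isSimpleGroup [Finite G] (h2 : (Nat.card G).factorization 2 = 3) (hgen : D.gen = ⊤) :
    IsSimpleGroup G := by
  haveI : Fact (Nat.Prime 2) := ⟨Nat.prime_two⟩
  obtain ⟨hz2, h12, -, -, hz1, h11, -⟩ := model_involutions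
  haveI : Nontrivial G := ⟨⟨D.g, 1, D.g_ne_one⟩⟩
  refine ⟨fun K hK => ?_⟩
  by_cases hodd : Odd (Nat.card K)
  · left
    have hC : ∀ x ∈ K, x * D.φ z = D.φ z * x → x = 1 := by
      intro x hxK hx
      have hx' : x ∈ D.φ.range := by rw [D.range_eq, mem_centralizer_singleton_iff]; exact hx
      obtain ⟨n, rfl⟩ := hx'
      by_contra hn
      have key : ∀ a : M, D.φ a ∈ K → a ^ 15 = 1 := by
        intro a ha
        have h120 : a ^ 120 = 1 := by have := pow_card_eq_one (x := a); rwa [card_M] at this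
        have hk : a ^ Nat.card K = 1 := D.inj (by
          rw [map_pow, map_one]; exact congrArg Subtype.val (pow_card_eq_one' (x := (⟨_, ha⟩ : K))))
        have := pow_gcd_eq_one.2 ⟨h120, hk⟩
        obtain ⟨r, hr⟩ : Nat.gcd 120 (Nat.card K) ∣ 15 := by
          have hd : Nat.gcd 120 (Nat.card K) ∣ 120 := Nat.gcd_dvd_left _ _
          have ho : Odd (Nat.gcd 120 (Nat.card K)) := hodd.of_dvd_nat (Nat.gcd_dvd_right _ _)
          exact (Nat.Coprime.dvd_of_dvd_mul_left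
            (Nat.Coprime.pow_right 3 ((Nat.coprime_two_right).2 ho)) (by rwa [show 2 ^ 3 * 15 = 120 by norm_num]))
        rw [hr, pow_mul, this, one_pow]
      obtain ⟨a, b, ha, ha1⟩ := no_odd_normal n ⟨odd_orders n (key n hxK), fun h => hn (by rw [h, map_one])⟩
      refine ha1 ?_
      have h15 := key (n * (a * n * a⁻¹) * (b * n * b⁻¹)) (by
        rw [map_mul, map_mul, map_mul, map_mul, map_mul, map_mul, map_inv, map_inv]
        exact mul_mem (mul_mem hxK (hK.conj_mem _ hxK _)) (hK.conj_mem _ hxK _))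
      rwa [show (15 : ℕ) = 2 * 7 + 1 from rfl, pow_succ, pow_mul, pow_two, ha, one_pow, one_mul] at h15
    have hinv : ∀ m : M, inS m → m ≠ 1 → ∀ x ∈ K, D.φ m * x * D.φ m = x⁻¹ := by
      intro m hm hm1
      have hs : D.φ m * D.φ m = 1 := by rw [← map_mul, subS_sq m hm, map_one]
      refine inverts_of_no_fixed K hs (fun x hx => ?_) fun x hx hc => ?_
      · have := hK.conj_mem x hx (D.φ m)
        rwa [inv_eq_of_mul_eq_one_right hs] at this
      · obtain ⟨i, hi⟩ := D.inS_conj m hm hm1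
        have := hC ((D.g ^ i)⁻¹ * x * D.g ^ i) (by simpa using hK.conj_mem x hx (D.g ^ i)⁻¹) (by
          calc (D.g ^ i)⁻¹ * x * D.g ^ i * D.φ z
              = (D.g ^ i)⁻¹ * (x * (D.g ^ i * D.φ z * (D.g ^ i)⁻¹)) * D.g ^ i := by group
            _ = (D.g ^ i)⁻¹ * ((D.g ^ i * D.φ z * (D.g ^ i)⁻¹) * x) * D.g ^ i := by rw [hi, hc]
            _ = _ := by group)
        calc x = D.g ^ i * ((D.g ^ i)⁻¹ * x * D.g ^ i) * (D.g ^ i)⁻¹ := by group
          _ = 1 := by rw [this]; group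
    obtain ⟨hs1, hs3, hs13, hne3, hne13⟩ := invert_facts
    rw [eq_bot_iff]
    intro x hx
    have e1 := hinv α1 hs1 h11 x hx
    have e3 := hinv α3 hs3 hne3
    have e13 := hinv (α1 * α3) hs13 hne13 x hx
    have hx2 : x * x = 1 := by
      have : x⁻¹ = x := by
        calc x⁻¹ = D.φ (α1 * α3) * x * D.φ (α1 * α3) := e13.symm
          _ = D.φ α1 * (D.φ α3 * x * D.φ α3) * D.φ α1 := by
              rw [map_mul]
              nth_rewrite 2 [← map_mul]
              rw [subS_comm α1 hs1 α3 hs3, map_mul]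
              simp only [mul_assoc]
          _ = x := by rw [e3 x hx, show D.φ α1 * x⁻¹ * D.φ α1 = (x⁻¹)⁻¹ from hinv α1 hs1 h11 _ (inv_mem hx), inv_inv]
      calc x * x = x * x⁻¹ := by rw [this]
        _ = 1 := mul_inv_cancel x
    have h1 : x ^ Nat.card K = 1 := congrArg Subtype.val (pow_card_eq_one' (x := (⟨x, hx⟩ : K)))
    obtain ⟨r, hr⟩ := hodd
    rw [hr, pow_succ, pow_mul, pow_two, hx2, one_pow, one_mul] at h1
    exact h1
  · right
    obtain ⟨u, hu⟩ := exists_prime_orderOf_dvd_card' (G := K) 2 (even_iff_two_dvd.1 (Nat.not_odd_iff_even.1 hodd))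
    have hu2 : (u : G) * u = 1 := by
      have := congrArg Subtype.val (hu ▸ pow_orderOf_eq_one u)
      rwa [SubgroupClass.coe_pow, pow_two] at this
    obtain ⟨h, hh⟩ := D.isConj_of_involution h2 hu2 fun h => by
      rw [show u = 1 from Subtype.ext h, orderOf_one] at hu
      norm_num at hu
    have hzK : D.φ z ∈ K := hh ▸ hK.conj_mem _ u.2 h
    have h1K : D.φ α1 ∈ K := D.g_z ▸ hK.conj_mem _ hzK D.g
    have h2K : D.φ α2 ∈ K := by
      obtain ⟨m, hm⟩ := α2_conj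
      rw [← hm, map_mul, map_mul, map_inv]
      exact hK.conj_mem _ h1K _
    have h3K : D.φ α3 ∈ K := by
      have h := hK.conj_mem _ h1K D.g
      rw [D.g_α1, cycle_identities.1, map_mul] at h
      have := mul_mem (inv_mem h1K) h
      rwa [inv_mul_cancel_left] at this
    rw [eq_top_iff, ← hgen, gen, closure_le]
    rintro _ ⟨l, hl, rfl⟩
    have hl' : l < 5 := hl
    interval_cases l
    exacts [hzK, h1K, h2K, h3K, hK.conj_mem _ h2K D.g]

end Amalgam

end Cfsg.Agent.JankoRecog
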