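import Cfsg.Agent.Lib.JankoRecog.Functions
import Cfsg.Agent.Lib.JankoRecog.Pattern
import Cfsg.Agent.Lib.JankoRecog.Structure
import Cfsg.Agent.Lib.CharInt.TI
import Cfsg.Agent.Lib.CharInt.Basic
import Cfsg.Agent.Lib.Char.ClassSum
import Cfsg.Agent.Lib.SmallSimple.FivePairs

/-!
# The quotient `|G| / 120` of a simple group with an amalgam is not one modulo thirty
-/

set_option autoImplicit false
set_option linter.style.haveILetI false
set_option linter.unusedSectionVars false

namespace Cfsg.Agent.JankoRecog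

open Cfsg Cfsg.Agent
open scoped Classical ComplexConjugate

variable {G : Type*} [Group G] [Fintype G] (D : Amalgam G)

/-- The centraliser model as an isomorphism. -/
noncomputable def Amalgam.toCent : M ≃* Subgroup.centralizer ({D.φ z} : Set G) :=
  (MonoidHom.ofInjective D.inj).trans (MulEquiv.subgroupCongr D.range_eq)

theorem Amalgam.coe_toCent (m : M) : ((D.toCent m : Subgroup.centralizer ({D.φ z} : Set G)) : G) = D.φ m := rfl

/-- The transported function. -/
noncomputable def Amalgam.lift (F : M → ℤ) : Subgroup.centralizer ({D.φ z} : Set G) → ℂ :=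
  fun h => (F (D.toCent.symm h) : ℂ)

/-- The induced function. -/
noncomputable def Amalgam.nu (F : M → ℤ) : G → ℂ :=
  indFun (Subgroup.centralizer ({D.φ z} : Set G)) (D.lift F)

/-- The special elements of the centraliser. -/
def Amalgam.specials : Set G := {g | ∃ k : M, Special k ∧ D.φ k = g}

theorem Amalgam.ti : ∀ g : G, ∀ s ∈ D.specials, g⁻¹ * s * g ∈ D.specials →
    g ∈ Subgroup.centralizer ({D.φ z} : Set G) := by
  rintro g _ ⟨h, hh, rfl⟩ ⟨k, hk, e⟩
  have e15 := congrArg (fun u => u ^ 15) e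
  beta_reduce at e15
  rw [← map_pow, show g⁻¹ * D.φ h * g = g⁻¹ * D.φ h * (g⁻¹)⁻¹ by rw [inv_inv], conj_pow, ← map_pow, hh, hk,
    inv_inv] at e15
  rw [Subgroup.mem_centralizer_singleton_iff]
  calc g * D.φ z = g * (g⁻¹ * D.φ z * g) := by rw [← e15]
    _ = D.φ z * g := by group

theorem Amalgam.sum_lift {R : Type*} [AddCommMonoid R] (F : Subgroup.centralizer ({D.φ z} : Set G) → R) :
    ∑ h, F h = ∑ k : M, F (D.toCent k) :=
  (Fintype.sum_equiv D.toCent.toEquiv (fun k => F (D.toCent k)) F fun _ => rfl).symm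

theorem Amalgam.card_cent : Nat.card (Subgroup.centralizer ({D.φ z} : Set G)) = 120 := by
  rw [← D.range_eq, D.card_range]

theorem Amalgam.isGen_lift {F : M → ℤ} (hF : IsGeneralizedCharacter M (fun h => (F h : ℂ))) :
    IsGeneralizedCharacter (Subgroup.centralizer ({D.φ z} : Set G)) (D.lift F) :=
  Char.IsGeneralizedCharacter.comp hF D.toCent.symm.toMonoidHom

theorem Amalgam.supp_lift {F : M → ℤ} (hF : ∀ h, ¬ Special h → F h = 0) :
    ∀ x : Subgroup.centralizer ({D.φ z} : Set G), (x : G) ∉ D.specials → D.lift F x = 0 := fun x hx => by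
  rw [Amalgam.lift, hF _ fun h => hx ⟨_, h, by rw [← D.coe_toCent (D.toCent.symm x), MulEquiv.apply_symm_apply]⟩, Int.cast_zero]

theorem Amalgam.inner_nu {F F' : M → ℤ} (hF : ∀ h, ¬ Special h → F h = 0) (hF' : ∀ h, ¬ Special h → F' h = 0)
    (hgen : IsGeneralizedCharacter M (fun h => (F' h : ℂ))) {n : ℤ} (hg : gram F F' = 120 * n) :
    classInner (D.nu F) (D.nu F') = (n : ℂ) := by
  rw [Amalgam.nu, Amalgam.nu, CharInt.classInner_indFun_ti D.ti (D.supp_lift hF)
    (Char.IsGeneralizedCharacter.isClassFunction (D.isGen_lift hgen)) (D.supp_lift hF'), classInner,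
    D.card_cent, D.sum_lift]
  simp only [Amalgam.lift, MulEquiv.symm_apply_apply, map_intCast]
  rw [show (∑ k : M, (F k : ℂ) * (F' k : ℂ)) = ((gram F F' : ℤ) : ℂ) by simp only [gram]; push_cast; rfl, hg]
  push_cast
  ring

theorem Amalgam.coeff (F : M → ℤ) (χ : IrrCharacter G) :
    classInner (D.nu F) χ.1 = (120 : ℂ)⁻¹ * ∑ k : M, (F k : ℂ) * conj (χ.1 (D.φ k)) := by
  rw [Amalgam.nu, Char.classInner_indFun _ _ (Char.IsCharacter.isClassFunction (Char.irr_isCharacter χ)), classInner,
    D.card_cent, D.sum_lift]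
  simp only [Amalgam.lift, MulEquiv.symm_apply_apply, Nat.cast_ofNat]
  rfl

variable (h2 : (Nat.card G).factorization 2 = 3)

theorem Amalgam.isConj_invol {u : M} (hu : u * u = 1) (hu1 : u ≠ 1) (h2 : (Nat.card G).factorization 2 = 3) :
    IsConj (D.φ z) (D.φ u) := by
  obtain ⟨h, hh⟩ := D.isConj_of_involution (u := D.φ u) h2 (by rw [← map_mul, hu, map_one])
    fun e => hu1 (D.inj (by rw [e, map_one]))
  exact (isConj_iff.2 ⟨h, hh⟩).symm

/-- The pairs of conjugators. -/
noncomputable def pairs (t g : G) : Finset (G × G) :=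
  Finset.univ.filter fun p => p.1 * t * p.1⁻¹ * (p.2 * t * p.2⁻¹) = g

theorem Amalgam.card_pairs (h2 : (Nat.card G).factorization 2 = 3) {k : M} (hk : Special k) :
    (pairs (D.φ z) (D.φ k)).card = 14400 * (solutions k).card := by
  obtain ⟨hz2, -, -, -, hz1, -⟩ := model_involutions
  set φ := D.φ with hφ
  set t := φ z with htdef
  have ht2 : t * t = 1 := by rw [htdef, ← map_mul, hz2, map_one]
  have hsq : ∀ a : G, (a * t * a⁻¹) * (a * t * a⁻¹) = 1 := fun a => by
    rw [show a * t * a⁻¹ * (a * t * a⁻¹) = a * (t * t) * a⁻¹ by group, ht2]; group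
  rw [Finset.card_eq_sum_card_fiberwise (s := pairs t (φ k)) (f := fun p : G × G => p.1 * t * p.1⁻¹)
      (t := (solutions k).map ⟨φ, D.inj⟩) ?_, Finset.sum_map]
  · rw [Finset.sum_congr rfl fun u hu => (?_ : _ = 14400), Finset.sum_const, smul_eq_mul, mul_comm]
    obtain ⟨hu2, hu1, huk, huk1⟩ := (Finset.mem_filter.1 hu).2
    have c1 : IsConj t (φ u) := D.isConj_invol hu2 hu1 h2
    have c2 : IsConj t (φ (u * k)) := D.isConj_invol (by
      rw [show u * k * (u * k) = u * k * u * k by group, huk, inv_mul_cancel]) huk1 h2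
    have huinv : φ u * φ u = 1 := by rw [← map_mul, hu2, map_one]
    calc _ = ((Finset.univ.filter fun a : G => a * t * a⁻¹ = φ u) ×ˢ
          (Finset.univ.filter fun a : G => a * t * a⁻¹ = φ (u * k))).card := by
          congr 1
          ext p
          simp only [pairs, Finset.mem_filter, Finset.mem_univ, true_and, Finset.mem_product,
            Function.Embedding.coeFn_mk, map_mul]
          constructor
          · rintro ⟨h1, h2'⟩
            refine ⟨h2', ?_⟩
            rw [← h1, h2', ← mul_assoc, huinv, one_mul]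
          · rintro ⟨h1, h2'⟩
            rw [h1, h2', ← mul_assoc, huinv, one_mul]
            exact ⟨rfl, rfl⟩
      _ = 14400 := by
          rw [Finset.card_product, FivePairs.card_conjugators t c1, FivePairs.card_conjugators t c2,
            D.card_cent]
  · intro p hp
    have hp' : p.1 * t * p.1⁻¹ * (p.2 * t * p.2⁻¹) = φ k := (Finset.mem_filter.1 (Finset.mem_coe.1 hp)).2
    set u := p.1 * t * p.1⁻¹ with hu
    set v := p.2 * t * p.2⁻¹ with hv
    have hvu : u * φ k = v := by rw [← hp', ← mul_assoc, hsq, one_mul]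
    have huinv : u⁻¹ = u := inv_eq_of_mul_eq_one_right (hsq p.1)
    have hconj : u * φ k * u = (φ k)⁻¹ := by
      rw [hvu, ← hp', mul_inv_rev, huinv, inv_eq_of_mul_eq_one_right (hsq p.2)]
    have hconjt : u * t * u = t := by
      have h15 : φ k ^ 15 = t := by rw [← map_pow, hk]
      rw [← h15]
      nth_rewrite 2 [← huinv]
      rw [← conj_pow, huinv, hconj, inv_pow, h15, inv_eq_of_mul_eq_one_right ht2]
    obtain ⟨u', hu'⟩ : u ∈ φ.range := by
      rw [D.range_eq, Subgroup.mem_centralizer_singleton_iff]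
      calc u * t = u * t * (u * u) := by rw [hsq, mul_one]
        _ = t * u := by rw [← mul_assoc, hconjt]
    refine Finset.mem_coe.2 (Finset.mem_map.2 ⟨u', Finset.mem_filter.2 ⟨Finset.mem_univ _, ?_, ?_, ?_, ?_⟩, hu'⟩)
    · exact D.inj (by rw [map_mul, hu', map_one]; exact hsq _)
    · intro h
      rw [h, map_one] at hu'
      have : t = 1 := by
        calc t = p.1⁻¹ * u * p.1 := by rw [hu]; group
          _ = 1 := by rw [← hu']; group
      exact hz1 (D.inj (by rw [map_one]; exact this))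
    · exact D.inj (by rw [map_mul, map_mul, map_inv, hu', hconj])
    · intro h
      have hv1 : v = 1 := by rw [← hvu, ← hu', ← map_mul, h, map_one]
      have : t = 1 := by
        calc t = p.2⁻¹ * v * p.2 := by rw [hv]; group
          _ = 1 := by rw [hv1]; group
      exact hz1 (D.inj (by rw [map_one]; exact this))

theorem Amalgam.weighted (h2 : (Nat.card G).factorization 2 = 3) :
    ∑ χ : IrrCharacter G, classInner (D.nu fC) χ.1 * (χ.1 (D.φ z) * χ.1 (D.φ z) / χ.1 1) =
      86400 / (Nat.card G : ℂ) := by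
  have hG : (Nat.card G : ℂ) ≠ 0 := Nat.cast_ne_zero.2 Nat.card_pos.ne'
  simp only [D.coeff, Finset.mul_sum, Finset.sum_mul]
  rw [Finset.sum_comm]
  have key : ∀ k : M, ∑ χ : IrrCharacter G, (120 : ℂ)⁻¹ * ((fC k : ℂ) * conj (χ.1 (D.φ k))) *
      (χ.1 (D.φ z) * χ.1 (D.φ z) / χ.1 1) =
      (120 : ℂ)⁻¹ * 14400 / (Nat.card G : ℂ) * ((fC k * ((solutions k).card : ℤ) : ℤ) : ℂ) := by
    intro k
    by_cases hk : Special k
    · have h := Char.card_conj_mul_conj_eq (D.φ z) (D.φ z) (D.φ k)
      rw [Nat.card_eq_fintype_card (α := {p : G × G // _}), Fintype.card_subtype,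
        show (Finset.univ.filter fun p : G × G => p.1 * D.φ z * p.1⁻¹ * (p.2 * D.φ z * p.2⁻¹) = D.φ k) =
          pairs (D.φ z) (D.φ k) from rfl, D.card_pairs h2 hk] at h
      push_cast at h ⊢
      calc _ = (120 : ℂ)⁻¹ * (fC k : ℂ) * ∑ χ : IrrCharacter G,
            χ.1 (D.φ z) * χ.1 (D.φ z) * χ.1 (D.φ k)⁻¹ / χ.1 1 := by
            rw [Finset.mul_sum]
            refine Finset.sum_congr rfl fun χ _ => ?_
            rw [Char.IsCharacter.conj_apply (Char.irr_isCharacter χ)]
            ring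
        _ = _ := by
            generalize (∑ χ : IrrCharacter G, χ.1 (D.φ z) * χ.1 (D.φ z) * χ.1 (D.φ k)⁻¹ / χ.1 1) = S at h ⊢
            field_simp
            linear_combination -(fC k : ℂ) * h
    · simp [(tab_support k hk).2.2]
  rw [Finset.sum_congr rfl fun k _ => key k, ← Finset.mul_sum, ← Int.cast_sum, count_solutions]
  field_simp
  norm_num

/-- The quotient is not one modulo thirty. -/
theorem Amalgam.quotient_mod_ne (D : Amalgam G) [IsSimpleGroup G] (h2 : (Nat.card G).factorization 2 = 3) {k : ℕ}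
    (hk : Nat.card G = 120 * k) : k % 30 ≠ 1 := by
  obtain ⟨hz2, h12, -, -, hz1, h11, -⟩ := model_involutions
  have hnc : ¬ ∀ a b : G, a * b = b * a := fun h => noncomm (D.inj (by rw [map_mul, map_mul, h]))
  have sT : ∀ h, ¬ Special h → fT h = 0 := fun h hh => (tab_support h hh).1
  have sE : ∀ h, ¬ Special h → fE h = 0 := fun h hh => (tab_support h hh).2.1
  have sC : ∀ h, ¬ Special h → fC h = 0 := fun h hh => (tab_support h hh).2.2
  have mult : ∀ {F : M → ℤ}, IsGeneralizedCharacter M (fun h => (F h : ℂ)) →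
      ∃ m : IrrCharacter G → ℤ, D.nu F = ∑ ψ, (m ψ : ℂ) • ψ.1 ∧ ∀ ψ, classInner (D.nu F) ψ.1 = m ψ :=
    fun hF => Char.IsGeneralizedCharacter.exists_decomp (Char.isGeneralizedCharacter_indFun _ (D.isGen_lift hF))
  obtain ⟨mT, dT, cT⟩ := mult isGen_fT
  obtain ⟨mE, dE, cE⟩ := mult isGen_fE
  obtain ⟨mC, dC, cC⟩ := mult isGen_fC
  have dot : ∀ {F F' : M → ℤ} {m m' : IrrCharacter G → ℤ} {n : ℤ},
      D.nu F' = ∑ ψ, (m' ψ : ℂ) • ψ.1 → (∀ ψ, classInner (D.nu F) ψ.1 = m ψ) →
      classInner (D.nu F) (D.nu F') = (n : ℂ) → ∑ ψ, m ψ * m' ψ = n := by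
    intro F F' m m' n h1 hm h3
    rw [h1, Char.classInner_sum_right] at h3
    simp only [Char.classInner_smul_right, map_intCast, hm] at h3
    have : ((∑ ψ, m ψ * m' ψ : ℤ) : ℂ) = (n : ℂ) := by
      push_cast; rw [← h3]; exact Finset.sum_congr rfl fun ψ _ => mul_comm _ _
    exact_mod_cast this
  have hdeg := fun χ : IrrCharacter G => Char.apply_one_eq_degree χ
  have hdpos : ∀ χ : IrrCharacter G, 0 < Char.degree χ := fun χ => by
    obtain ⟨n, hn, he⟩ := CharInt.irr_degree_pos χ.2
    rw [hdeg] at he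
    have : Char.degree χ = n := by exact_mod_cast he
    omega
  have atone : ∀ {F : M → ℤ} {m : IrrCharacter G → ℤ}, D.nu F = ∑ ψ, (m ψ : ℂ) • ψ.1 → F 1 = 0 →
      ∑ ψ, m ψ * (Char.degree ψ : ℤ) = 0 := by
    intro F m h1 h0
    have h := congrFun h1 1
    rw [Amalgam.nu, Char.indFun_apply_one, Amalgam.lift, map_one, h0, Int.cast_zero, mul_zero, Finset.sum_apply] at h
    simp only [Pi.smul_apply, hdeg, smul_eq_mul] at h
    have : ((∑ ψ, m ψ * (Char.degree ψ : ℤ) : ℤ) : ℂ) = 0 := by push_cast; exact h.symm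
    exact_mod_cast this
  have triv : ∀ {F : M → ℤ} {m : IrrCharacter G → ℤ} {n : ℤ}, (∀ ψ, classInner (D.nu F) ψ.1 = m ψ) →
      (∑ h : M, F h) = 120 * n → m (Char.trivialChar G) = n := by
    intro F m n h1 hs
    have h := h1 (Char.trivialChar G)
    rw [D.coeff] at h
    simp only [Char.trivialChar_apply, map_one, mul_one, ← Int.cast_sum, hs] at h
    push_cast at h
    ring_nf at h
    exact_mod_cast h.symm
  have one : ∀ χ : IrrCharacter G, (Char.degree χ : ℤ) = 1 → χ = Char.trivialChar G := by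
    intro χ hχ
    obtain ⟨lam, hlam⟩ := Char.IsCharacter.exists_monoidHom (Char.irr_isCharacter χ)
      (by rw [hdeg]; exact_mod_cast hχ)
    rcases (inferInstance : lam.toHomUnits.ker.Normal).eq_bot_or_eq_top with hb | htop
    · exact absurd (fun a b => (lam.toHomUnits.ker_eq_bot_iff).1 hb (by rw [map_mul, map_mul, mul_comm])) hnc
    · refine Subtype.ext (funext fun g => ?_)
      have hg : lam.toHomUnits g = 1 := MonoidHom.mem_ker.1 (htop ▸ Subgroup.mem_top g)
      have := congrArg Units.val hg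
      rw [MonoidHom.coe_toHomUnits, Units.val_one] at this
      rw [← hlam, this, Char.trivialChar_apply]
  set T : IrrCharacter G → ℤ := fun χ => 4 * mT χ + 3 * mE χ - 5 * mC χ with hT
  have hTval : ∀ χ : IrrCharacter G, χ.1 (D.φ z) = (T χ : ℂ) := by
    intro χ
    have h1 : ((T χ : ℤ) : ℂ) = conj (χ.1 (D.φ z)) := by
      simp only [hT]
      push_cast
      rw [← cT, ← cE, ← cC, D.coeff, D.coeff, D.coeff]
      calc _ = (120 : ℂ)⁻¹ * ∑ k : M, ((4 * fT k + 3 * fE k - 5 * fC k : ℤ) : ℂ) * conj (χ.1 (D.φ k)) := by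
            push_cast
            simp only [add_mul, sub_mul, mul_assoc, Finset.sum_add_distrib, Finset.sum_sub_distrib, ← Finset.mul_sum]
            ring
        _ = _ := by
            simp only [indicator, apply_ite (fun n : ℤ => (n : ℂ)), Int.cast_zero, Int.cast_ofNat, ite_mul, zero_mul,
              Finset.sum_ite_eq', Finset.mem_univ, if_true]
            ring
    rw [← Complex.conj_conj (χ.1 (D.φ z)), ← h1, map_intCast]
  -- restriction to the Sylow subgroup
  have hcong : ∀ χ : IrrCharacter G, ((Char.degree χ : ℤ) - T χ) % 8 = 0 := by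
    intro χ
    have hres : IsCharacter subS (fun x : subS => χ.1 (D.φ x)) :=
      Char.IsCharacter.comp (Char.irr_isCharacter χ) (D.φ.comp subS.subtype)
    have htriv : IsCharacter subS (⇑(1 : subS →* ℂ)) :=
      Char.IsIrrCharacter.isCharacter (Char.isIrrCharacter_of_monoidHom 1)
    obtain ⟨n, hn⟩ := Char.IsCharacter.exists_nat_classInner hres htriv
    rw [classInner, card_subS] at hn
    simp only [MonoidHom.one_apply, map_one, mul_one] at hn
    have hsum : ∑ x : subS, χ.1 (D.φ x) = (Char.degree χ : ℂ) + 7 * (T χ : ℂ) := by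
      rw [← Finset.add_sum_erase _ _ (Finset.mem_univ (1 : subS))]
      rw [Finset.sum_congr rfl fun x (hx : x ∈ Finset.univ.erase (1 : subS)) => (?_ : _ = (T χ : ℂ)), Finset.sum_const,
        Finset.card_erase_of_mem (Finset.mem_univ _), Finset.card_univ, ← Nat.card_eq_fintype_card, card_subS,
        OneMemClass.coe_one, map_one, hdeg]
      · simp
      · have hx1 : (x : M) ≠ 1 := fun e => Finset.ne_of_mem_erase hx (Subtype.ext e)
        obtain ⟨g, hg⟩ := isConj_iff.1 (D.isConj_invol (subS_sq x x.2) hx1 h2)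
        rw [← hg, Char.IsCharacter.isClassFunction (Char.irr_isCharacter χ) (D.φ z) g, hTval]
    rw [hsum] at hn
    have h8 : ((Char.degree χ : ℤ) + 7 * T χ : ℤ) = 8 * (n : ℤ) := by
      have : (((Char.degree χ : ℤ) + 7 * T χ : ℤ) : ℂ) = ((8 * (n : ℤ) : ℤ) : ℂ) := by
        push_cast at hn ⊢
        linear_combination (8 : ℂ) * hn
      exact_mod_cast this
    omega
  have hfull : ∀ χ : IrrCharacter G, (Char.degree χ : ℤ) = T χ → χ = Char.trivialChar G := by
    intro χ he
    have hmem : D.φ z ∈ CharInt.charKernel (Char.irr_isCharacter χ) := by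
      rw [CharInt.mem_charKernel, hTval, hdeg, ← he, Int.cast_natCast]
    have htop := ((CharInt.charKernel_normal (Char.irr_isCharacter χ)).eq_bot_or_eq_top).resolve_left fun hb =>
      hz1 (D.inj (by rw [map_one]; rw [hb, Subgroup.mem_bot] at hmem; exact hmem))
    refine one χ ?_
    have hnorm := Char.classInner_irr χ χ
    rw [if_pos rfl, classInner] at hnorm
    have hall : ∀ g : G, χ.1 g = (Char.degree χ : ℂ) := fun g => by
      rw [← hdeg]
      exact (CharInt.mem_charKernel (Char.irr_isCharacter χ)).1 (htop ▸ Subgroup.mem_top g)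
    simp only [hall, map_natCast, Finset.sum_const, Finset.card_univ, nsmul_eq_mul] at hnorm
    rw [← Nat.card_eq_fintype_card, ← mul_assoc, inv_mul_cancel₀ (Nat.cast_ne_zero.2 Nat.card_pos.ne'), one_mul] at hnorm
    have : Char.degree χ * Char.degree χ = 1 := by exact_mod_cast hnorm
    exact_mod_cast Nat.eq_one_of_mul_eq_one_left this
  obtain ⟨gTT, gTE, gTC, gEE, gEC, gCC⟩ := gram_table
  obtain ⟨uT, uE, uC⟩ := totals
  obtain ⟨oT, oE, oC⟩ := tab_at_one
  have hdata : Mult (fun χ => (Char.degree χ : ℤ)) mT mE mC (Char.trivialChar G) :=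
    { pos := fun χ => by exact_mod_cast hdpos χ
      dego := by
        have := hdeg (Char.trivialChar G)
        rw [Char.trivialChar_apply] at this
        exact_mod_cast this.symm
      one := one
      TT := dot dT cT (D.inner_nu sT sT isGen_fT gTT)
      TC := dot dC cT (D.inner_nu sT sC isGen_fC gTC)
      TE := dot dE cT (D.inner_nu sT sE isGen_fE gTE)
      EE := dot dE cE (D.inner_nu sE sE isGen_fE gEE)
      EC := dot dC cE (D.inner_nu sE sC isGen_fC gEC)
      CC := dot dC cC (D.inner_nu sC sC isGen_fC gCC)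
      To := triv cT uT
      Eo := triv cE uE
      Co := triv cC uC
      T1 := atone dT oT
      C1 := atone dC oC
      congr := hcong
      full := hfull }
  have hkpos : 0 < k := Nat.pos_of_ne_zero fun h => by
    rw [h, mul_zero] at hk; exact Nat.card_pos.ne' hk
  intro hk1
  refine hdata.mod_ne (k := (k : ℤ)) (by exact_mod_cast hkpos) ?_ ?_ (by omega)
  · have h := congrArg (fun n : ℕ => (n : ℤ)) (Char.sum_degree_sq (G := G))
    simp only [hk] at h
    push_cast at h
    rw [← h]
    exact Finset.sum_congr rfl fun χ _ => (sq _).symm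
  · have h := D.weighted h2
    rw [hk] at h
    have : (((∑ i, (mC i : ℚ) * (T i : ℚ) ^ 2 / ((Char.degree i : ℤ) : ℚ)) : ℚ) : ℂ) =
        ((720 / ((k : ℤ) : ℚ) : ℚ) : ℂ) := by
      push_cast at h ⊢
      rw [show (720 : ℂ) / (k : ℂ) = 86400 / (120 * (k : ℂ)) by
        rw [← mul_div_mul_left (720 : ℂ) (k : ℂ) (by norm_num : (120 : ℂ) ≠ 0)]; norm_num, ← h]
      refine Finset.sum_congr rfl fun χ _ => ?_
      rw [cC, hTval, hdeg]
      ring
    exact_mod_cast this

end Cfsg.Agent.JankoRecog
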