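import Cfsg.Agent.Lib.JankoRecog.Count
import Cfsg.Agent.Lib.JankoRecog.Exceptional

/-!
# `J₁` from the centraliser of an involution
-/

set_option autoImplicit false
set_option linter.style.haveILetI false

namespace Cfsg.Agent.JankoRecog

open Subgroup

variable {G : Type*} [Group G] [Finite G]

/-- A simple group with Sylow `2`-subgroups of order eight and an involution centraliser `2 × A₅` is `J₁`. -/
theorem isoJ1_of_centralizer [IsSimpleGroup G] (h8 : ∀ P : Sylow 2 G, Nat.card (P : Subgroup G) = 8) {t : G}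
    (ht : orderOf t = 2) (e : centralizer ({t} : Set G) ≃* M) : Cfsg.Spor.IsoJ1 G := by
  haveI : Fintype G := Fintype.ofFinite G
  obtain ⟨D, -⟩ := exists_amalgam h8 ht e
  have h2 : (Nat.card G).factorization 2 = 3 := by
    haveI : Fact (Nat.Prime 2) := ⟨Nat.prime_two⟩
    obtain ⟨P⟩ : Nonempty (Sylow 2 G) := inferInstance
    have h := P.card_eq_multiplicity
    rw [h8 P, show 8 = 2 ^ 3 by norm_num] at h
    exact (Nat.pow_right_injective le_rfl h).symm
  have hd : 120 ∣ Nat.card G := dvd_trans (by norm_num) D.dvd_card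
  obtain ⟨k, hk⟩ := hd
  exact isoJ1_of_quotient D h2 hk (D.quotient_mod_ne h2 hk)

/-- The Sylow `2`-subgroups have order eight when `t` is `2`-central. -/
theorem sylow_card_eight {t : G} (ht : Cfsg.IsTwoCentralInvolution t) (e : centralizer ({t} : Set G) ≃* M)
    (P : Sylow 2 G) : Nat.card (P : Subgroup G) = 8 := by
  haveI : Fact (Nat.Prime 2) := ⟨Nat.prime_two⟩
  have hM : Nat.card (centralizer ({t} : Set G)) = 120 := by
    rw [Nat.card_congr e.toEquiv, Nat.card_eq_fintype_card]
    decide +kernel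
  obtain ⟨-, Q, -, hQ⟩ := ht
  have hle : (Q : Subgroup G) ≤ centralizer {t} := fun x hx => mem_centralizer_singleton_iff.2 (hQ x hx)
  have hd : 2 ^ (Nat.card G).factorization 2 ∣ 120 := by
    rw [← Q.card_eq_multiplicity, ← hM]; exact card_dvd_of_le hle
  have hd' : 120 ∣ Nat.card G := hM ▸ card_subgroup_dvd_card _
  have h3 : 3 ≤ (Nat.card G).factorization 2 :=
    (Nat.prime_two.pow_dvd_iff_le_factorization Nat.card_pos.ne').1 (dvd_trans (by norm_num) hd')
  have h3' : (Nat.card G).factorization 2 ≤ 3 := by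
    by_contra h
    have : 2 ^ 4 ∣ 120 := dvd_trans (Nat.pow_dvd_pow 2 (by omega)) hd
    norm_num at this
  rw [P.card_eq_multiplicity, le_antisymm h3' h3]
  norm_num

/-- The order formula. -/
theorem card_eq [IsSimpleGroup G] {t : G} (ht : Cfsg.IsTwoCentralInvolution t)
    (e : centralizer ({t} : Set G) ≃* M) : Nat.card G = 175560 := by
  obtain ⟨f⟩ := isoJ1_of_centralizer (sylow_card_eight ht e) ht.1 e
  rw [Nat.card_congr f.toEquiv, Cfsg.Agent.Janko.J1.card_J1]

end Cfsg.Agent.JankoRecog
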