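import Cfsg.Agent.Lib.JankoRecog.Model
import Cfsg.Agent.Lib.Presented.Coset
import Cfsg.Agent.Lib.Presented.Order

/-!
# The local amalgam and the words in its five involutions
-/

set_option autoImplicit false

namespace Cfsg.Agent.JankoRecog

open Cfsg.Agent.Presented (wval wval_eq_prod)

variable {G : Type*} [Group G]

/-- A model of an involution centraliser together with an element of order seven normalising
the Sylow subgroup generated by the images of `z`, `α1`, `α3`. -/
structure Amalgam (G : Type*) [Group G] where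
  φ : M →* G
  inj : Function.Injective φ
  range_eq : φ.range = Subgroup.centralizer ({φ z} : Set G)
  g : G
  g_pow : g ^ 7 = 1
  g_c : φ cM * g * (φ cM)⁻¹ = g ^ 2
  g_z : g * φ z * g⁻¹ = φ α1
  g_α1 : g * φ α1 * g⁻¹ = φ (cM * α1 * cM⁻¹)
  g_α3 : g * φ α3 * g⁻¹ = φ (z * α3)

/-- The word for conjugation by `g` of a generator of the centraliser. -/
def subL : ℕ → List ℕ
  | 0 => [1]
  | 1 => [1, 3]
  | 2 => [4]
  | _ => [0, 3]

/-- The conjugated word. -/
def subW (w : List ℕ) : List ℕ := w.flatMap subL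

/-- A word for `cM`. -/
def wc : List ℕ := [1, 2, 1, 2, 1, 3, 2]

/-- A word for `g`. -/
def gw : List ℕ := wc ++ (subW wc).reverse

/-- The relations holding in the centraliser. -/
def mrels : List (List ℕ) :=
  [[0, 0], [1, 1], [2, 2], [3, 3], [4, 4], [0, 1, 0, 1], [0, 2, 0, 2], [0, 3, 0, 3],
    (List.replicate 5 [1, 2]).flatten, (List.replicate 3 [2, 3]).flatten, [1, 3, 1, 3],
    (List.replicate 5 [1, 2, 3]).flatten]

/-- The relations whose conjugates are added. -/
def mrels' : List (List ℕ) :=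
  [[2, 2], [0, 1, 0, 1], [0, 2, 0, 2], [0, 3, 0, 3],
    (List.replicate 5 [1, 2]).flatten, (List.replicate 3 [2, 3]).flatten, [1, 3, 1, 3],
    (List.replicate 5 [1, 2, 3]).flatten]

/-- The relations of the amalgam. -/
def baseRels : List (List ℕ) :=
  mrels ++ [(List.replicate 7 gw).flatten, wc ++ gw ++ wc.reverse ++ gw.reverse ++ gw.reverse] ++
    [0, 1, 3, 2].map (fun l => gw ++ [l] ++ gw.reverse ++ (subL l).reverse) ++ mrels'.map subW

/-- The commutator relation of a pair of words in the centraliser. -/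
def commRel (A f : List ℕ) : List ℕ := A ++ subW f ++ A.reverse ++ (subW f).reverse

namespace Amalgam

variable (D : Amalgam G)

/-- The five generating involutions. -/
def gens : ℕ → G
  | 0 => D.φ z
  | 1 => D.φ α1
  | 2 => D.φ α2
  | 3 => D.φ α3
  | _ => D.g * D.φ α2 * D.g⁻¹

/-- The value of a word, as a product from the left. -/
def wv (w : List ℕ) : G := (w.map D.gens).prod

theorem wv_append (u w : List ℕ) : D.wv (u ++ w) = D.wv u * D.wv w := by
  rw [wv, List.map_append, List.prod_append]; rfl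

theorem wv_nil : D.wv [] = 1 := rfl

theorem wv_cons (l : ℕ) (w : List ℕ) : D.wv (l :: w) = D.gens l * D.wv w := by
  rw [wv, List.map_cons, List.prod_cons]; rfl

theorem wv_eq_wval (w : List ℕ) : D.wv w = wval D.gens w.reverse := by
  rw [wval_eq_prod, List.map_reverse, List.reverse_reverse]; rfl

theorem gens_sq : ∀ l, D.gens l * D.gens l = 1 := by
  obtain ⟨h0, h1, h2, h3, -⟩ := model_involutions
  intro l
  match l with
  | 0 => show D.φ z * D.φ z = 1; rw [← map_mul, h0, map_one]
  | 1 => show D.φ α1 * D.φ α1 = 1; rw [← map_mul, h1, map_one]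
  | 2 => show D.φ α2 * D.φ α2 = 1; rw [← map_mul, h2, map_one]
  | 3 => show D.φ α3 * D.φ α3 = 1; rw [← map_mul, h3, map_one]
  | n + 4 =>
    show D.g * D.φ α2 * D.g⁻¹ * (D.g * D.φ α2 * D.g⁻¹) = 1
    rw [show D.g * D.φ α2 * D.g⁻¹ * (D.g * D.φ α2 * D.g⁻¹) = D.g * D.φ (α2 * α2) * D.g⁻¹ by
      rw [map_mul]; group, h2, map_one, mul_one, mul_inv_cancel]

theorem wv_reverse (w : List ℕ) : D.wv w.reverse = (D.wv w)⁻¹ := by
  induction w with
  | nil => simp [wv]
  | cons l w ih =>
    rw [List.reverse_cons, wv_append, ih, wv_cons, wv_cons, wv_nil, mul_one, mul_inv_rev,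
      inv_eq_of_mul_eq_one_right (D.gens_sq l)]

theorem wv_replicate (w : List ℕ) : ∀ n, D.wv (List.replicate n w).flatten = D.wv w ^ n
  | 0 => by simp [wv]
  | n + 1 => by rw [List.replicate_succ, List.flatten_cons, wv_append, wv_replicate w n, pow_succ']

theorem gens_model : ∀ l < 4, D.gens l = D.φ (mgen l) := by
  intro l hl
  interval_cases l <;> rfl

theorem wv_model (w : List ℕ) (hw : ∀ l ∈ w, l < 4) : D.wv w = D.φ (wM w) := by
  rw [wM, map_list_prod, wv, List.map_map]
  exact congrArg List.prod (List.map_congr_left fun l hl => D.gens_model l (hw l hl))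

theorem wv_subL : ∀ l < 4, D.wv (subL l) = D.g * D.φ (mgen l) * D.g⁻¹ := by
  intro l hl
  obtain ⟨-, -, -, -, e, -⟩ := cM_facts
  interval_cases l
  · rw [show D.g * D.φ (mgen 0) * D.g⁻¹ = D.φ α1 from D.g_z, show subL 0 = [1] from rfl, wv_cons, wv_nil,
      mul_one]; rfl
  · rw [show D.g * D.φ (mgen 1) * D.g⁻¹ = D.φ (cM * α1 * cM⁻¹) from D.g_α1, show subL 1 = [1, 3] from rfl,
      D.wv_model _ (by simp)]
    congr 1; decide +kernel
  · rw [show subL 2 = [4] from rfl, wv_cons, wv_nil, mul_one]; rfl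
  · rw [show D.g * D.φ (mgen 3) * D.g⁻¹ = D.φ (z * α3) from D.g_α3, show subL 3 = [0, 3] from rfl,
      D.wv_model _ (by simp)]
    congr 1; decide +kernel

theorem wv_subW (w : List ℕ) : (∀ l ∈ w, l < 4) → D.wv (subW w) = D.g * D.φ (wM w) * D.g⁻¹ := by
  induction w with
  | nil => intro _; simp [subW, wv, wM]
  | cons l w ih =>
    intro hw
    rw [subW, List.flatMap_cons, wv_append, D.wv_subL l (hw l List.mem_cons_self),
      ← subW, ih fun x hx => hw x (List.mem_cons_of_mem _ hx), wM, wM, List.map_cons, List.prod_cons,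
      map_mul]
    group

theorem wv_wc : D.wv wc = D.φ cM := by
  rw [D.wv_model wc (by decide)]; exact congrArg D.φ cM_facts.2.2.2.1

theorem wv_gw : D.wv gw = D.g := by
  rw [gw, wv_append, wv_reverse, D.wv_subW wc (by decide), wv_wc]
  have e : wM wc = cM := cM_facts.2.2.2.1
  rw [e]
  calc D.φ cM * (D.g * D.φ cM * D.g⁻¹)⁻¹ = (D.φ cM * D.g * (D.φ cM)⁻¹) * D.g⁻¹ := by group
    _ = D.g := by rw [D.g_c]; group

theorem mrels_one : ∀ r ∈ mrels, D.wv r = 1 := by
  have h : ∀ r ∈ mrels, r = [4, 4] ∨ ((∀ l ∈ r, l < 4) ∧ wM r = 1) := by decide +kernel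
  intro r hr
  rcases h r hr with rfl | ⟨h1, h2⟩
  · rw [wv_cons, wv_cons, wv_nil, mul_one, gens_sq]
  · rw [D.wv_model r h1, h2, map_one]

theorem baseRels_one : ∀ r ∈ baseRels, D.wv r = 1 := by
  intro r hr
  simp only [baseRels, List.mem_append, List.mem_cons, List.not_mem_nil, or_false, List.mem_map] at hr
  rcases hr with ((hr | rfl | rfl) | ⟨l, hl, rfl⟩) | ⟨r, hr, rfl⟩
  · exact D.mrels_one r hr
  · rw [wv_replicate, wv_gw, D.g_pow]
  · rw [wv_append, wv_append, wv_append, wv_append, wv_reverse, wv_reverse, wv_gw, wv_wc, D.g_c]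
    group
  · have hl4 : l < 4 := by omega
    rw [wv_append, wv_append, wv_append, wv_reverse, wv_reverse, wv_gw, D.wv_subL l hl4, wv_cons, wv_nil,
      mul_one, D.gens_model l hl4]
    group
  · have h : ∀ r ∈ mrels', (∀ l ∈ r, l < 4) ∧ wM r = 1 := by decide +kernel
    rw [D.wv_subW r (h r hr).1, (h r hr).2, map_one, mul_one, mul_inv_cancel]

theorem commRel_one (A f : List ℕ) (hA : ∀ l ∈ A, l < 4) (hf : ∀ l ∈ f, l < 4)
    (h : Commute (D.φ (wM A)) (D.g * D.φ (wM f) * D.g⁻¹)) : D.wv (commRel A f) = 1 := by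
  rw [commRel, wv_append, wv_append, wv_append, wv_reverse, wv_reverse, D.wv_model A hA, D.wv_subW f hf, h.eq]
  group

end Amalgam

end Cfsg.Agent.JankoRecog
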