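import Cfsg.Agent.Lib.JankoRecog.Amalgam
import Cfsg.Agent.Lib.Presented.Derive
import Cfsg.Agent.Lib.JankoRecog.Data.Collapse0
import Cfsg.Agent.Lib.JankoRecog.Data.Collapse1
import Cfsg.Agent.Lib.JankoRecog.Data.Collapse3
import Cfsg.Agent.Lib.JankoRecog.Data.Collapse4
import Cfsg.Agent.Lib.JankoRecog.Data.Collapse5
import Cfsg.Agent.Lib.JankoRecog.Data.Collapse6
import Cfsg.Agent.Lib.JankoRecog.Data.Collapse7

/-!
# Seven of the eight commutator relations collapse the amalgam
-/

set_option autoImplicit false

namespace Cfsg.Agent.JankoRecog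

open Cfsg.Agent.Presented (wval wval_append DerivCert)

variable {G : Type*} [Group G]

/-- The words from which the relators of a log may come, in walk order. -/
def allowed (A f : List ℕ) : List (List ℕ) :=
  (baseRels ++ [commRel A f]).map List.reverse ++ (List.range 5).map (fun l => [l, l]) ++ [[]]

/-- Every relator of the log is a rotation of the stated source. -/
def originOK (A f : List ℕ) (ws : List (List ℕ)) (os : List (ℕ × ℕ)) : Bool :=
  (ws.length == os.length) && (ws.zip os).all fun p => ((allowed A f).getD p.2.1 []).rotate p.2.2 == p.1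

theorem wval_rotate {s : ℕ → G} {w : List ℕ} (h : wval s w = 1) (r : ℕ) : wval s (w.rotate r) = 1 := by
  rw [List.rotate_eq_drop_append_take_mod, wval_append]
  rw [← List.take_append_drop (r % w.length) w, wval_append] at h
  exact mul_eq_one_comm.1 h

namespace Amalgam

variable (D : Amalgam G)

theorem allowed_one {A f : List ℕ} (h : D.wv (commRel A f) = 1) :
    ∀ w ∈ allowed A f, wval D.gens w = 1 := by
  intro w hw
  simp only [allowed, List.mem_append, List.mem_map, List.mem_range, List.mem_cons,
    List.not_mem_nil, or_false] at hw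
  rcases hw with (⟨r, hr, rfl⟩ | ⟨l, -, rfl⟩) | rfl
  · rw [← wv_eq_wval]
    rcases hr with hr | rfl
    · exact D.baseRels_one r hr
    · exact h
  · simp [wval, D.gens_sq]
  · rfl

theorem false_of_cert {A f : List ℕ} (h : D.wv (commRel A f) = 1) (C : DerivCert) (hf : C.factsOK = true)
    (hl : C.loopsOK = true) {os : List (ℕ × ℕ)}
    (ho : originOK A f (C.words.take C.nR) os = true) (hK : C.words.drop C.nR = [[0], [1], [2], [3]])
    (hloop : C.loops.map Prod.fst = [[4]]) : False := by
  simp only [originOK, Bool.and_eq_true, beq_iff_eq, List.all_eq_true] at ho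
  have hR : ∀ w ∈ C.words.take C.nR, wval D.gens w = 1 := by
    intro w hw
    obtain ⟨i, hi, rfl⟩ := List.mem_iff_getElem.1 hw
    have hmem : ((C.words.take C.nR)[i], os[i]'(by omega)) ∈ (C.words.take C.nR).zip os :=
      List.mem_iff_getElem.2 ⟨i, by rw [List.length_zip]; omega, by rw [List.getElem_zip]⟩
    have e := ho.2 _ hmem
    simp only at e
    rw [← e]
    refine wval_rotate ?_ _
    generalize (os[i]'(by omega)).1 = j
    rcases lt_or_ge j (allowed A f).length with hj | hj
    · rw [List.getD_eq_getElem _ _ hj]
      exact D.allowed_one h _ (List.getElem_mem hj)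
    · rw [List.getD_eq_default _ _ hj]
      rfl
  have hgen : ∀ l < 4, D.gens l ∈ D.φ.range := fun l hl => ⟨_, (D.gens_model l hl).symm⟩
  have h4 := C.loops_mem (s := D.gens) D.φ.range hf hl (fun l _ => D.gens_sq l) hR (fun w hw => by
    rw [hK] at hw
    simp only [List.mem_cons, List.not_mem_nil, or_false] at hw
    rcases hw with rfl | rfl | rfl | rfl <;> simpa [wval] using hgen _ (by norm_num)) [4]
    (by rw [hloop]; simp)
  simp only [wval, one_mul] at h4
  have hall : ∀ w : List ℕ, D.wv w ∈ D.φ.range := by
    intro w
    induction w with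
    | nil => exact one_mem _
    | cons l w ih =>
      rw [D.wv_cons]
      refine mul_mem ?_ ih
      match l with
      | 0 => exact hgen 0 (by norm_num)
      | 1 => exact hgen 1 (by norm_num)
      | 2 => exact hgen 2 (by norm_num)
      | 3 => exact hgen 3 (by norm_num)
      | n + 4 => exact h4
  obtain ⟨m, hm⟩ := D.wv_gw ▸ hall gw
  have h7 : m ^ 7 = 1 := D.inj (by rw [map_pow, hm, D.g_pow, map_one])
  have h120 : m ^ 120 = 1 := by
    have := pow_card_eq_one (x := m)
    rwa [card_M] at this
  have hm1 : m = 1 := by
    have := pow_gcd_eq_one.2 ⟨h7, h120⟩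
    simpa using this
  rw [hm1, map_one] at hm
  have := D.g_z
  rw [← hm, one_mul, inv_one, mul_one] at this
  exact model_involutions.2.2.2.2.2.2 (D.inj this).symm

theorem collapse0 (h : D.wv (commRel [1, 2, 1, 3, 2] [2, 1, 2, 1, 3]) = 1) : False :=
  D.false_of_cert h Presented.JankoCollapse0.deriv Presented.JankoCollapse0.deriv_factsOK
    Presented.JankoCollapse0.deriv_loopsOK (os := Presented.JankoCollapse0.origins) (by decide +kernel)
    (by decide +kernel) (by decide +kernel)

theorem collapse1 (h : D.wv (commRel [1, 2, 1, 3, 2] [1, 2, 1, 2, 3]) = 1) : False :=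
  D.false_of_cert h Presented.JankoCollapse1.deriv Presented.JankoCollapse1.deriv_factsOK
    Presented.JankoCollapse1.deriv_loopsOK (os := Presented.JankoCollapse1.origins) (by decide +kernel)
    (by decide +kernel) (by decide +kernel)

theorem collapse3 (h : D.wv (commRel [1, 2, 1, 3, 2] [2, 1, 3]) = 1) : False :=
  D.false_of_cert h Presented.JankoCollapse3.deriv Presented.JankoCollapse3.deriv_factsOK
    Presented.JankoCollapse3.deriv_loopsOK (os := Presented.JankoCollapse3.origins) (by decide +kernel)
    (by decide +kernel) (by decide +kernel)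

theorem collapse4 (h : D.wv (commRel [1, 2] [2, 1, 2, 1, 3]) = 1) : False :=
  D.false_of_cert h Presented.JankoCollapse4.deriv Presented.JankoCollapse4.deriv_factsOK
    Presented.JankoCollapse4.deriv_loopsOK (os := Presented.JankoCollapse4.origins) (by decide +kernel)
    (by decide +kernel) (by decide +kernel)

theorem collapse5 (h : D.wv (commRel [1, 2] [1, 2, 1, 2, 3]) = 1) : False :=
  D.false_of_cert h Presented.JankoCollapse5.deriv Presented.JankoCollapse5.deriv_factsOK
    Presented.JankoCollapse5.deriv_loopsOK (os := Presented.JankoCollapse5.origins) (by decide +kernel)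
    (by decide +kernel) (by decide +kernel)

theorem collapse6 (h : D.wv (commRel [1, 2] [3, 2, 1]) = 1) : False :=
  D.false_of_cert h Presented.JankoCollapse6.deriv Presented.JankoCollapse6.deriv_factsOK
    Presented.JankoCollapse6.deriv_loopsOK (os := Presented.JankoCollapse6.origins) (by decide +kernel)
    (by decide +kernel) (by decide +kernel)

theorem collapse7 (h : D.wv (commRel [1, 2] [2, 1, 3]) = 1) : False :=
  D.false_of_cert h Presented.JankoCollapse7.deriv Presented.JankoCollapse7.deriv_factsOK
    Presented.JankoCollapse7.deriv_loopsOK (os := Presented.JankoCollapse7.origins) (by decide +kernel)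
    (by decide +kernel) (by decide +kernel)

end Amalgam

end Cfsg.Agent.JankoRecog
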