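import Cfsg.Agent.Lib.JankoRecog.Pair
import Cfsg.Agent.Lib.Janko.J1Cent

/-!
# The quotient `|G| / 120` decides; the amalgam of `J₁` itself
-/

set_option autoImplicit false
set_option linter.style.haveILetI false

namespace Cfsg.Agent.JankoRecog

open Subgroup
open scoped Pointwise

theorem norm_card_three :
    (Finset.univ.filter fun m : M => m * wM [1, 2, 1, 3, 2] * m⁻¹ = wM [1, 2, 1, 3, 2] ∨
      m * wM [1, 2, 1, 3, 2] * m⁻¹ = (wM [1, 2, 1, 3, 2])⁻¹).card = 12 := by decide +kernel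

theorem norm_card_five :
    (Finset.univ.filter fun m : M => m * wM [1, 2] * m⁻¹ = wM [1, 2] ∨
      m * wM [1, 2] * m⁻¹ = (wM [1, 2])⁻¹).card = 20 := by decide +kernel

theorem cent_inv_three :
    ∀ m : M, (m * wM [1, 2, 1, 3, 2] = wM [1, 2, 1, 3, 2] * m ∧ m * m = 1) → m = 1 ∨ m = z := by decide +kernel

theorem cent_inv_five : ∀ m : M, (m * wM [1, 2] = wM [1, 2] * m ∧ m * m = 1) → m = 1 ∨ m = z := by decide +kernel

theorem no_square_five : ∀ m : M, ∀ i : Fin 5, m * wM [1, 2] * m⁻¹ = (wM [1, 2]) ^ (i : ℕ) →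
    (i : ℕ) = 1 ∨ (i : ℕ) = 4 := by decide +kernel

theorem no_square_three : ∀ m : M, ∀ i : Fin 3, m * wM [1, 2, 1, 3, 2] * m⁻¹ = (wM [1, 2, 1, 3, 2]) ^ (i : ℕ) →
    (i : ℕ) = 1 ∨ (i : ℕ) = 2 := by decide +kernel

variable {G : Type*} [Group G] [Finite G]

namespace Amalgam

variable (D : Amalgam G)

/-- A small centraliser pins the order modulo `p`. -/
theorem sylow_congr {xm : M} {p : ℕ} (hp : p = 3 ∨ p = 5) (hxp : xm ^ p = 1) (hx1 : xm ≠ 1)
    (hxi : α1 * xm * α1 = xm⁻¹) (hcent : (Finset.univ.filter fun m : M => m * xm = xm * m).card = 2 * p)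
    (hnorm : (Finset.univ.filter fun m : M => m * xm * m⁻¹ = xm ∨ m * xm * m⁻¹ = xm⁻¹).card = 4 * p)
    (hinv : ∀ m : M, (m * xm = xm * m ∧ m * m = 1) → m = 1 ∨ m = z)
    (hsq : ∀ m : M, ∀ i : Fin p, m * xm * m⁻¹ = xm ^ (i : ℕ) → (i : ℕ) = 1 ∨ (i : ℕ) = p - 1)
    {k : ℕ} (hk : Nat.card G = 120 * k)
    (hC : Nat.card (centralizer ({D.φ xm} : Set G)) = 2 * p) : 30 * k / p % p = 1 := by
  classical
  have hpp : p.Prime := by rcases hp with rfl | rfl <;> norm_num
  haveI : Fact p.Prime := ⟨hpp⟩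
  obtain ⟨hz2, h12, -, -, hz1, -⟩ := model_involutions
  set x := D.φ xm with hx
  have hxo : orderOf x = p := by rw [hx, orderOf_injective D.φ D.inj]; exact orderOf_eq_prime hxp hx1
  obtain ⟨P, hP⟩ := (IsPGroup.of_card (p := p) (n := 1) (G := zpowers x)
    (by rw [Nat.card_zpowers, hxo, pow_one])).exists_le_sylow
  -- the Sylow subgroup is cyclic of order `p`
  have hPC : (P : Subgroup G) ⊓ centralizer {x} = zpowers x := by
    refine (eq_of_le_of_card_ge (le_inf hP (zpowers_le.2 (mem_centralizer_singleton_iff.2 rfl))) ?_).symm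
    have hd : Nat.card ((P : Subgroup G) ⊓ centralizer {x} : Subgroup G) ∣ 2 * p :=
      hC ▸ card_dvd_of_le inf_le_right
    obtain ⟨n, hn⟩ := IsPGroup.iff_card.1 (P.2.to_le (inf_le_left (b := centralizer {x})))
    rw [Nat.card_zpowers, hxo, hn]
    rw [hn] at hd
    have hcop : Nat.Coprime (p ^ n) 2 := Nat.Coprime.pow_left _ (by rcases hp with rfl | rfl <;> norm_num)
    exact Nat.le_of_dvd hpp.pos (hcop.dvd_of_dvd_mul_left hd)
  have hP1 : (P : Subgroup G) = zpowers x := by
    refine le_antisymm (fun y hy => ?_) hP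
    have hzc : ∀ w ∈ (P : Subgroup G), (∀ v ∈ (P : Subgroup G), w * v = v * w) → w ∈ zpowers x := fun w hw hc =>
      hPC.le ⟨hw, mem_centralizer_singleton_iff.2 (hc x (hP (mem_zpowers x)))⟩
    -- the centre is inside, hence equal
    haveI : Nontrivial (P : Subgroup G) :=
      ⟨⟨⟨x, hP (mem_zpowers x)⟩, 1, fun h => by
        have : x = 1 := congrArg Subtype.val h
        rw [this, orderOf_one] at hxo
        exact hpp.ne_one hxo.symm⟩⟩
    obtain ⟨⟨w, hw⟩, hw1⟩ := ((center (P : Subgroup G)).nontrivial_iff_exists_ne_one).1 P.2.center_nontrivial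
    obtain ⟨hwc, hwne⟩ : ⟨w, hw⟩ ∈ center (P : Subgroup G) ∧ (⟨w, hw⟩ : (P : Subgroup G)) ≠ 1 := hw1
    have hwm : w ∈ zpowers x := hzc w hw fun v hv => (congrArg Subtype.val (mem_center_iff.1 hwc ⟨v, hv⟩)).symm
    have hzw : zpowers w = zpowers x :=
      eq_of_le_of_card_ge (zpowers_le.2 hwm) (by
        rw [Nat.card_zpowers, Nat.card_zpowers, hxo]
        have hd : orderOf w ∣ p := by
          rw [← hxo]; exact orderOf_dvd_of_mem_zpowers hwm
        rcases (Nat.dvd_prime hpp).1 hd with h | h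
        · exact absurd (orderOf_eq_one_iff.1 h) (fun e => hwne (Subtype.ext e))
        · rw [h])
    refine hPC.le ⟨hy, mem_centralizer_singleton_iff.2 ?_⟩
    obtain ⟨i, hi⟩ := mem_zpowers_iff.1 (hzw.ge (mem_zpowers x))
    have hcy : Commute y w := congrArg Subtype.val (mem_center_iff.1 hwc ⟨y, hy⟩)
    rw [← hi]
    exact (hcy.zpow_right i).eq
  have hPp : Nat.card (P : Subgroup G) = p := by rw [hP1, Nat.card_zpowers, hxo]
  -- the normaliser
  have hN : Nat.card (normalizer ((P : Subgroup G) : Set G)) = 4 * p := by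
    rw [← hnorm, ← Fintype.card_subtype, ← Nat.card_eq_fintype_card]
    refine (Nat.card_congr (Equiv.ofBijective (fun m : {m : M // m * xm * m⁻¹ = xm ∨ m * xm * m⁻¹ = xm⁻¹} =>
      (⟨D.φ m.1, ?_⟩ : normalizer ((P : Subgroup G) : Set G))) ⟨?_, ?_⟩)).symm
    · rw [hP1, mem_normalizer_iff]
      have hmx : D.φ m.1 * x * (D.φ m.1)⁻¹ = x ∨ D.φ m.1 * x * (D.φ m.1)⁻¹ = x⁻¹ := by
        rw [hx, ← map_inv, ← map_mul, ← map_mul, ← map_inv]
        exact m.2.imp (congrArg D.φ) (congrArg D.φ)
      intro w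
      constructor
      · intro hw
        obtain ⟨i, rfl⟩ := mem_zpowers_iff.1 hw
        rw [← conj_zpow]
        rcases hmx with h | h <;> rw [h]
        · exact zpow_mem (mem_zpowers x) i
        · exact zpow_mem (inv_mem (mem_zpowers x)) i
      · intro hw
        obtain ⟨i, hi⟩ := mem_zpowers_iff.1 hw
        have : w = (D.φ m.1)⁻¹ * x ^ i * D.φ m.1 := by rw [hi]; group
        rw [this, show (D.φ m.1)⁻¹ * x ^ i * D.φ m.1 = ((D.φ m.1)⁻¹ * x * ((D.φ m.1)⁻¹)⁻¹) ^ i by
          rw [conj_zpow, inv_inv], inv_inv]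
        rcases hmx with h | h
        · rw [show (D.φ m.1)⁻¹ * x * D.φ m.1 = x by nth_rewrite 1 [← h]; group]
          exact zpow_mem (mem_zpowers x) i
        · rw [show (D.φ m.1)⁻¹ * x * D.φ m.1 = x⁻¹ by
            have h' := congrArg (fun u => u⁻¹) h
            simp only [mul_inv_rev, inv_inv] at h'
            nth_rewrite 1 [← h']
            group]
          exact zpow_mem (inv_mem (mem_zpowers x)) i
    · intro a b h
      exact Subtype.ext (D.inj (congrArg Subtype.val h))
    · rintro ⟨n, hn⟩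
      rw [hP1] at hn
      obtain ⟨i, hi⟩ := mem_zpowers_iff.1 ((mem_normalizer_iff.1 hn x).1 (mem_zpowers x))
      -- `n` fixes the involution of the centraliser
      have hnC : ∀ u, u * x = x * u → n⁻¹ * u * n * x = x * (n⁻¹ * u * n) := by
        intro u hu
        have h1 : n * x * n⁻¹ * u = u * (n * x * n⁻¹) := by
          rw [← hi]; exact ((Commute.zpow_right (show Commute u x from hu) i).eq).symm
        calc n⁻¹ * u * n * x = n⁻¹ * (u * (n * x * n⁻¹)) * n := by group
          _ = n⁻¹ * (n * x * n⁻¹ * u) * n := by rw [h1]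
          _ = x * (n⁻¹ * u * n) := by group
      have hall : ∀ u, u * x = x * u → ∃ m, m * xm = xm * m ∧ D.φ m = u := by
        intro u hu
        have hsub : (centralizer ({xm} : Set M)).map D.φ = centralizer {x} := by
          refine eq_of_le_of_card_ge ?_ ?_
          · rintro _ ⟨m, hm, rfl⟩
            rw [mem_centralizer_singleton_iff, hx, ← map_mul, ← map_mul]
            exact congrArg D.φ (mem_centralizer_singleton_iff.1 hm)
          · rw [hC, card_map_of_injective D.inj, ← hcent, ← Fintype.card_subtype, ← Nat.card_eq_fintype_card]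
            exact le_of_eq (Nat.card_congr (Equiv.subtypeEquivRight fun m => mem_centralizer_singleton_iff.symm))
        obtain ⟨m, hm, hmu⟩ := hsub.ge (mem_centralizer_singleton_iff.2 hu)
        exact ⟨m, mem_centralizer_singleton_iff.1 hm, hmu⟩
      have hzx : D.φ z * x = x * D.φ z := by rw [hx, ← map_mul, ← map_mul, z_comm]
      obtain ⟨m, hm, hmu⟩ := hall _ (hnC _ hzx)
      have hm2 : m * m = 1 := D.inj (by
        rw [map_mul, hmu, map_one]
        calc n⁻¹ * D.φ z * n * (n⁻¹ * D.φ z * n) = n⁻¹ * (D.φ z * D.φ z) * n := by group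
          _ = 1 := by rw [← map_mul, hz2, map_one]; group)
      have hnz : n * D.φ z = D.φ z * n := by
        rcases hinv m ⟨hm, hm2⟩ with rfl | rfl
        · rw [map_one] at hmu
          refine absurd (D.inj (a₁ := z) (a₂ := 1) ?_) hz1
          rw [map_one]
          calc D.φ z = n * (n⁻¹ * D.φ z * n) * n⁻¹ := by group
            _ = 1 := by rw [← hmu]; group
        · calc n * D.φ z = n * (n⁻¹ * D.φ z * n) := by rw [← hmu]
            _ = D.φ z * n := by group
      obtain ⟨m', rfl⟩ : n ∈ D.φ.range := by rw [D.range_eq, mem_centralizer_singleton_iff]; exact hnz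
      refine ⟨⟨m', ?_⟩, rfl⟩
      have hp0 : (p : ℤ) ≠ 0 := by exact_mod_cast hpp.ne_zero
      have hxe : xm ^ i = xm ^ (i % (p : ℤ)).toNat := by
        rw [← zpow_natCast, Int.toNat_of_nonneg (Int.emod_nonneg _ hp0), zpow_eq_zpow_iff_modEq,
          show orderOf xm = p from orderOf_eq_prime hxp hx1]
        exact (Int.mod_modEq i p).symm
      have hlt : (i % (p : ℤ)).toNat < p := by
        have h1 := Int.emod_lt_of_pos i (by exact_mod_cast hpp.pos : (0 : ℤ) < p)
        omega
      have heq : m' * xm * m'⁻¹ = xm ^ (i % (p : ℤ)).toNat := D.inj (by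
        rw [← hxe, map_mul, map_mul, map_inv, ← hx, ← hi, map_zpow, ← hx])
      rcases hsq m' ⟨_, hlt⟩ heq with h | h
      · left; rw [heq]; simp only at h; rw [h, pow_one]
      · right
        rw [heq]
        simp only at h
        rw [h]
        refine eq_inv_of_mul_eq_one_left ?_
        rw [← pow_succ, Nat.sub_add_cancel hpp.one_le, hxp]
  have hidx := (normalizer ((P : Subgroup G) : Set G)).card_mul_index
  rw [show (normalizer ((P : Subgroup G) : Set G)).index = Nat.card (Sylow p G) from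
    P.card_eq_index_normalizer.symm, hN, hk] at hidx
  have hmod := card_sylow_modEq_one p G
  rw [Nat.ModEq, Nat.mod_eq_of_lt hpp.one_lt] at hmod
  rcases hp with rfl | rfl
  · rw [show 30 * k / 3 = Nat.card (Sylow 3 G) by omega]; exact hmod
  · rw [show 30 * k / 5 = Nat.card (Sylow 5 G) by omega]; exact hmod

/-- A quotient not congruent to one modulo thirty gives the relation. -/
theorem good_of_quotient {k : ℕ} (hk : Nat.card G = 120 * k) (hodd : Odd k) (hk30 : k % 30 ≠ 1) : D.Good := by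
  obtain ⟨a1, a2, a3, a4, b1, b2, b3, b4⟩ := rep_facts
  by_contra hg
  have h3 : Nat.card (centralizer ({D.φ (wM [1, 2, 1, 3, 2])} : Set G)) = 2 * 3 := by
    by_contra h
    exact hg (D.good_of_large (Or.inl rfl) a1 a2 a3 a4 fixed_three h)
  have h5 : Nat.card (centralizer ({D.φ (wM [1, 2])} : Set G)) = 2 * 5 := by
    by_contra h
    exact hg (D.good_of_large (Or.inr rfl) b1 b2 b3 b4 fixed_five h)
  have c3 := D.sylow_congr (Or.inl rfl) a1 a2 a3 a4 norm_card_three cent_inv_three no_square_three hk h3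
  have c5 := D.sylow_congr (Or.inr rfl) b1 b2 b3 b4 norm_card_five cent_inv_five no_square_five hk h5
  obtain ⟨r, hr⟩ := hodd
  omega

end Amalgam

theorem sylow_card_of_factorization (h : (Nat.card G).factorization 2 = 3) (P : Sylow 2 G) :
    Nat.card (P : Subgroup G) = 8 := by
  rw [P.card_eq_multiplicity, h]; norm_num

/-- `J₁` has a good amalgam. -/
theorem exists_good_J1 : ∃ E : Amalgam Cfsg.Spor.J1, E.Good := by
  haveI := Cfsg.Agent.Janko.J1.isSimpleGroup
  obtain ⟨e⟩ := Cfsg.Agent.Janko.J1.nonempty_centralizer_iso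
  obtain ⟨E, -⟩ := exists_amalgam (fun P => sylow_card_of_factorization fact_two_J1 P)
    Cfsg.Agent.Janko.J1.orderOf_tInv e
  exact ⟨E, E.good_of_quotient (k := 1463) (by rw [Cfsg.Agent.Janko.J1.card_J1]) ⟨731, rfl⟩ (by norm_num)⟩

/-- An amalgam in a simple group whose order is `120 k` with `k ≢ 1` modulo thirty gives `J₁`. -/
theorem isoJ1_of_quotient [IsSimpleGroup G] (D : Amalgam G) (h2 : (Nat.card G).factorization 2 = 3)
    {k : ℕ} (hk : Nat.card G = 120 * k) (hk30 : k % 30 ≠ 1) : Cfsg.Spor.IsoJ1 G := by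
  obtain ⟨E, hE⟩ := exists_good_J1
  refine isoJ1 D (D.good_of_quotient hk ?_ hk30) h2 E hE
  by_contra he
  rw [Nat.not_odd_iff_even] at he
  obtain ⟨r, hr⟩ := he
  have h16 : 2 ^ 4 ∣ Nat.card G := ⟨15 * r, by rw [hk, hr]; ring⟩
  have := (Nat.prime_two.pow_dvd_iff_le_factorization Nat.card_pos.ne').1 h16
  omega

end Cfsg.Agent.JankoRecog
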