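import Cfsg.Agent.Lib.JankoRecog.Local
import Cfsg.Agent.Lib.Char.Induction
import Cfsg.Agent.Lib.Char.Generalized
import Cfsg.Agent.Lib.Char.Linear

/-!
# Three virtual characters of `Z/2 × A₅` supported on the section of the central involution
-/

set_option autoImplicit false
set_option linter.style.haveILetI false

namespace Cfsg.Agent.JankoRecog

open Cfsg Cfsg.Agent

/-- The element of order five. -/
def f5 : M := wM [1, 2]

/-- The centraliser of `f5`. -/
def subC5 : Subgroup M := Subgroup.centralizer {f5}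

/-- Membership in the normaliser of `f5`. -/
def inN5 (m : M) : Prop := m * f5 * m⁻¹ = f5 ∨ m * f5 * m⁻¹ = f5⁻¹

/-- The normaliser of `f5`. -/
def subN5 : Subgroup M where
  carrier := {m | inN5 m}
  one_mem' := Or.inl (by rw [one_mul, inv_one, mul_one])
  mul_mem' {a b} ha hb := by
    have e : a * b * f5 * (a * b)⁻¹ = a * (b * f5 * b⁻¹) * a⁻¹ := by group
    show inN5 (a * b)
    rcases hb with hb | hb <;> rcases ha with ha | ha
    · left; rw [e, hb, ha]
    · right; rw [e, hb, ha]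
    · right; rw [e, hb, ← conj_inv, ha]
    · left; rw [e, hb, ← conj_inv, ha, inv_inv]
  inv_mem' {a} ha := by
    show inN5 a⁻¹
    rcases ha with ha | ha
    · left; nth_rewrite 1 [← ha]; group
    · right
      have := congrArg (fun u => u⁻¹) ha
      simp only [inv_inv] at this
      nth_rewrite 1 [← this]
      group

/-- The stabiliser of a point. -/
def subP4 : Subgroup M :=
  (MulAction.stabilizer (Equiv.Perm (Fin 5)) (4 : Fin 5)).comap
    ((alternatingGroup (Fin 5)).subtype.comp (MonoidHom.snd _ _))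

/-- Membership in the stabiliser. -/
def inP4 (m : M) : Prop := (m.2 : Equiv.Perm (Fin 5)) 4 = 4

theorem mem_subC5 (m : M) : m ∈ subC5 ↔ m * f5 = f5 * m := Subgroup.mem_centralizer_singleton_iff

theorem mem_subP4 (m : M) : m ∈ subP4 ↔ inP4 m := Iff.rfl

instance : DecidablePred inN5 := fun m => by unfold inN5; infer_instance
instance : DecidablePred inP4 := fun m => by unfold inP4; infer_instance
instance : DecidablePred (· ∈ subC5) := fun m => decidable_of_iff _ (mem_subC5 m).symm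
instance : DecidablePred (· ∈ subN5) := fun m => inferInstanceAs (Decidable (inN5 m))
instance : DecidablePred (· ∈ subP4) := fun m => decidable_of_iff _ (mem_subP4 m).symm

theorem card_subs : Nat.card subC5 = 10 ∧ Nat.card subN5 = 20 ∧ Nat.card subP4 = 24 := by
  refine ⟨?_, ?_, ?_⟩ <;> rw [Nat.card_eq_fintype_card] <;> decide +kernel

/-- The values of the permutation packed in a number. -/
def code (m : M) : ℕ :=
  ((((((m.2 : Equiv.Perm (Fin 5)) 0 : Fin 5) : ℕ) * 5 + ((m.2 : Equiv.Perm (Fin 5)) 1 : Fin 5)) * 5 +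
    ((m.2 : Equiv.Perm (Fin 5)) 2 : Fin 5)) * 5 + ((m.2 : Equiv.Perm (Fin 5)) 3 : Fin 5)) * 5 +
    ((m.2 : Equiv.Perm (Fin 5)) 4 : Fin 5)

/-- Membership in the centraliser of `f5`, by a list. -/
def listC5 (m : M) : Prop := code m ∈ [194, 978, 1830, 1922, 2886]

/-- Membership in the normaliser of `f5`, by a list. -/
def listN5 (m : M) : Prop := code m ∈ [194, 482, 714, 978, 1398, 1830, 1922, 2426, 2790, 2886]

instance : DecidablePred listC5 := fun m => by unfold listC5; infer_instance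
instance : DecidablePred listN5 := fun m => by unfold listN5; infer_instance

theorem list_spec : ∀ m : M, (m * f5 = f5 * m ↔ listC5 m) ∧ (inN5 m ↔ listN5 m) := by decide +kernel

/-- The sign of the central factor. -/
def eps (m : M) : ℤ := if m.1 = 1 then 1 else -1

/-- A table on the classes of `z` times elements of odd order. -/
def tab (v1 v3 v5 : ℤ) (h : M) : ℤ :=
  if h.1 = 1 then 0
  else if h.2 = 1 then v1
  else if h.2 * h.2 * h.2 = 1 then v3
  else if h.2 * h.2 = 1 then 0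
  else v5

/-- `(1 - ε) 4`. -/
def fT : M → ℤ := tab 8 2 (-2)
/-- `(1 - ε) (2 + 3 + 3')`. -/
def fE : M → ℤ := tab 16 4 6
/-- `-(1 - ε) (5 - 1)`. -/
def fC : M → ℤ := tab (-8) 4 2

/-- The special elements. -/
def Special (h : M) : Prop := h ^ 15 = z

instance : DecidablePred Special := fun h => inferInstanceAs (Decidable (h ^ 15 = z))

theorem tab_support : ∀ h : M, ¬ Special h → fT h = 0 ∧ fE h = 0 ∧ fC h = 0 := by decide +kernel

theorem tab_at_one : fT 1 = 0 ∧ fE 1 = 0 ∧ fC 1 = 0 := by decide +kernel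

/-- The unnormalised inner product. -/
def gram (f g : M → ℤ) : ℤ := ∑ h : M, f h * g h

theorem gram_table : gram fT fT = 120 * 2 ∧ gram fT fE = 120 * 0 ∧ gram fT fC = 120 * 0 ∧
    gram fE fE = 120 * 12 ∧ gram fE fC = 120 * 4 ∧ gram fC fC = 120 * 4 := by decide +kernel

theorem totals : (∑ h : M, fT h) = 120 * 0 ∧ (∑ h : M, fE h) = 120 * 2 ∧ (∑ h : M, fC h) = 120 * 1 := by
  decide +kernel

theorem indicator : ∀ h : M, 4 * fT h + 3 * fE h - 5 * fC h = if h = z then 120 else 0 := by decide +kernel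

/-- The involutions inverting `h` whose product with `h` is an involution. -/
def solutions (h : M) : Finset M :=
  Finset.univ.filter fun u => u * u = 1 ∧ u ≠ 1 ∧ u * h * u = h⁻¹ ∧ u * h ≠ 1

set_option maxHeartbeats 2000000 in
theorem count_solutions : (∑ h : M, fC h * ((solutions h).card : ℤ)) = 720 := by decide +kernel

/-- Fixed cosets of a decidable subgroup, counted with multiplicity. -/
def cnt (p : M → Prop) [DecidablePred p] (h : M) : ℤ := (Finset.univ.filter fun x : M => p (x⁻¹ * h * x)).card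

theorem cnt_conj (p : M → Prop) [DecidablePred p] (g h : M) : cnt p (g * h * g⁻¹) = cnt p h := by
  rw [cnt, cnt, Nat.cast_inj]
  refine Finset.card_equiv (Equiv.mulLeft g⁻¹) fun x => ?_
  simp only [Finset.mem_filter, Finset.mem_univ, true_and, Equiv.coe_mulLeft]
  rw [show (g⁻¹ * x)⁻¹ * h * (g⁻¹ * x) = x⁻¹ * (g * h * g⁻¹) * x by group]

theorem conj_fst (g h : M) : (g * h * g⁻¹).1 = h.1 := by
  rw [Prod.fst_mul, Prod.fst_mul, Prod.fst_inv, mul_comm g.1, mul_inv_cancel_right]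

theorem eps_conj (g h : M) : eps (g * h * g⁻¹) = eps h := by rw [eps, eps, conj_fst]

theorem tab_conj (v1 v3 v5 : ℤ) (g h : M) : tab v1 v3 v5 (g * h * g⁻¹) = tab v1 v3 v5 h := by
  have e3 : ∀ a b : alternatingGroup (Fin 5), a * b * a⁻¹ * (a * b * a⁻¹) * (a * b * a⁻¹) = a * (b * b * b) * a⁻¹ :=
    fun a b => by group
  have e2 : ∀ a b : alternatingGroup (Fin 5), a * b * a⁻¹ * (a * b * a⁻¹) = a * (b * b) * a⁻¹ := fun a b => by group
  have i1 : (g * h * g⁻¹).2 = 1 ↔ h.2 = 1 := by rw [Prod.snd_mul, Prod.snd_mul, Prod.snd_inv, conj_eq_one_iff]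
  have i3 : (g * h * g⁻¹).2 * (g * h * g⁻¹).2 * (g * h * g⁻¹).2 = 1 ↔ h.2 * h.2 * h.2 = 1 := by
    rw [Prod.snd_mul, Prod.snd_mul, Prod.snd_inv, e3, conj_eq_one_iff]
  have i2 : (g * h * g⁻¹).2 * (g * h * g⁻¹).2 = 1 ↔ h.2 * h.2 = 1 := by
    rw [Prod.snd_mul, Prod.snd_mul, Prod.snd_inv, e2, conj_eq_one_iff]
  simp only [tab, conj_fst, i1, i3, i2]

/-- Representatives of the classes outside the alternating factor. -/
def classRep : Fin 5 → M := ![z, z * α1, z * cM, z * f5, z * (f5 * f5)]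

/-- A conjugator and a representative for each element outside the alternating factor. -/
def classPairs : List (List ℕ × Fin 5) :=
 [([], 0), ([], 1), ([2], 1), ([1, 2], 1),
  ([3, 2], 1), ([1, 3, 2], 1), ([2, 1, 2], 1), ([1, 2, 1, 2], 1),
  ([2, 1, 3, 2], 1), ([3, 2, 1, 2], 1), ([1, 2, 1, 3, 2], 1), ([1, 3, 2, 1, 2], 1),
  ([2, 3, 2, 1, 2], 1), ([1, 2, 3, 2, 1, 2], 1), ([2, 1, 2, 1, 3, 2], 1), ([2, 1, 3, 2, 1, 2], 1),
  ([], 2), ([1], 2), ([2], 2), ([3], 2),
  ([1, 2], 2), ([1, 3], 2), ([2, 1], 2), ([2, 3], 2),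
  ([3, 2], 2), ([1, 2, 1], 2), ([1, 2, 3], 2), ([1, 3, 2], 2),
  ([2, 1, 2], 2), ([2, 1, 3], 2), ([2, 3, 2], 2), ([3, 2, 1], 2),
  ([1, 2, 1, 3], 2), ([1, 3, 2, 1], 2), ([2, 3, 2, 1], 2), ([1, 2, 3, 2, 1], 2),
  ([], 3), ([1], 3), ([3], 3), ([1, 3], 3),
  ([2, 3], 3), ([1, 2, 3], 3), ([2, 1, 3], 3), ([1, 2, 1, 3], 3),
  ([2, 1, 2, 3], 3), ([1, 2, 1, 2, 3], 3), ([2, 1, 2, 1, 3], 3), ([3, 2, 1, 2, 3], 3),
  ([], 4), ([1], 4), ([3], 4), ([1, 3], 4),
  ([2, 3], 4), ([1, 2, 3], 4), ([2, 1, 3], 4), ([1, 2, 1, 3], 4),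
  ([2, 1, 2, 3], 4), ([1, 2, 1, 2, 3], 4), ([2, 1, 2, 1, 3], 4), ([3, 2, 1, 2, 3], 4)]

theorem class_cover : ∀ h : M, h.1 ≠ 1 →
    h ∈ classPairs.map (fun q => wM q.1 * classRep q.2 * (wM q.1)⁻¹) := by decide +kernel

theorem of_classRep {F : M → ℤ} (hF : ∀ g h, F (g * h * g⁻¹) = F h) (hr : ∀ i, F (classRep i) = 0) :
    ∀ h : M, h.1 ≠ 1 → F h = 0 := by
  intro h hh
  obtain ⟨q, -, rfl⟩ := List.mem_map.1 (class_cover h hh)
  rw [hF, hr]

theorem rep_fT : ∀ i, 24 * fT (classRep i) - (1 - eps (classRep i)) * (cnt inP4 (classRep i) - 24) = 0 := by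
  decide +kernel

theorem rep_fE : ∀ i, 20 * fE (classRep i) -
    (1 - eps (classRep i)) * (2 * cnt listC5 (classRep i) - cnt listN5 (classRep i) + 40) = 0 := by
  decide +kernel

theorem rep_fC : ∀ i, 20 * fC (classRep i) - -((1 - eps (classRep i)) * (cnt listN5 (classRep i) - 40)) = 0 := by
  decide +kernel

theorem fT_eq' : ∀ h : M, h.1 ≠ 1 → 24 * fT h = (1 - eps h) * (cnt inP4 h - 24) := fun h hh =>
  sub_eq_zero.1 (of_classRep (F := fun h => 24 * fT h - (1 - eps h) * (cnt inP4 h - 24))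
    (fun g h => by simp only [fT, tab_conj, eps_conj, cnt_conj]) rep_fT h hh)

theorem fT_eq (h : M) : 24 * fT h = (1 - eps h) * (cnt inP4 h - 24) := by
  by_cases h1 : h.1 = 1
  · simp [fT, tab, eps, h1]
  · exact fT_eq' h h1

theorem fE_eq' : ∀ h : M, h.1 ≠ 1 → 20 * fE h = (1 - eps h) * (2 * cnt listC5 h - cnt listN5 h + 40) := fun h hh =>
  sub_eq_zero.1 (of_classRep (F := fun h => 20 * fE h - (1 - eps h) * (2 * cnt listC5 h - cnt listN5 h + 40))
    (fun g h => by simp only [fE, tab_conj, eps_conj, cnt_conj]) rep_fE h hh)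

theorem fE_eq (h : M) : 20 * fE h = (1 - eps h) * (2 * cnt listC5 h - cnt listN5 h + 40) := by
  by_cases h1 : h.1 = 1
  · simp [fE, tab, eps, h1]
  · exact fE_eq' h h1

theorem fC_eq' : ∀ h : M, h.1 ≠ 1 → 20 * fC h = -((1 - eps h) * (cnt listN5 h - 40)) := fun h hh =>
  sub_eq_zero.1 (of_classRep (F := fun h => 20 * fC h - -((1 - eps h) * (cnt listN5 h - 40)))
    (fun g h => by simp only [fC, tab_conj, eps_conj, cnt_conj]) rep_fC h hh)

theorem fC_eq (h : M) : 20 * fC h = -((1 - eps h) * (cnt listN5 h - 40)) := by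
  by_cases h1 : h.1 = 1
  · simp [fC, tab, eps, h1]
  · exact fC_eq' h h1

theorem eps_mul : ∀ a b : M, eps (a * b) = eps a * eps b := by
  have h : ∀ a b : Multiplicative (ZMod 2), (if a * b = 1 then (1 : ℤ) else -1) =
      (if a = 1 then 1 else -1) * (if b = 1 then 1 else -1) := by decide +kernel
  exact fun a b => h a.1 b.1

/-- The sign as a linear character. -/
noncomputable def epsHom : M →* ℂ where
  toFun x := (eps x : ℂ)
  map_one' := by norm_num [eps]
  map_mul' x y := by rw [← Int.cast_mul, ← eps_mul]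

theorem isGen_of_hom {K : Type} [Group K] [Finite K] (lam : K →* ℂ) :
    IsGeneralizedCharacter K (lam : K → ℂ) :=
  Char.IsCharacter.isGeneralized (Char.IsIrrCharacter.isCharacter (Char.isIrrCharacter_of_monoidHom lam))

theorem isGen_perm (K : Subgroup M) : IsGeneralizedCharacter M (indFun K (1 : K →* ℂ)) :=
  Char.isGeneralizedCharacter_indFun K (isGen_of_hom _)

theorem perm_eval (K : Subgroup M) (p : M → Prop) [DecidablePred p] (hp : ∀ m, m ∈ K ↔ p m) (h : M) :
    indFun K (1 : K →* ℂ) h = (cnt p h : ℂ) / (Nat.card K : ℂ) := by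
  show (Nat.card K : ℂ)⁻¹ * _ = _
  rw [cnt, Int.cast_natCast, div_eq_inv_mul]
  congr 1
  rw [← Finset.sum_boole (fun x : M => p (x⁻¹ * h * x)) Finset.univ]
  refine Finset.sum_congr rfl fun x _ => ?_
  by_cases hx : x⁻¹ * h * x ∈ K
  · rw [Char.extendByZero_of_mem _ _ hx, if_pos ((hp _).1 hx)]; rfl
  · rw [Char.extendByZero_of_notMem _ _ hx, if_neg fun h => hx ((hp _).2 h)]

theorem isGen_fT : IsGeneralizedCharacter M (fun h => (fT h : ℂ)) := by
  have e : (fun h => (fT h : ℂ)) = (⇑(1 : M →* ℂ) - ⇑epsHom) *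
      (indFun subP4 (1 : subP4 →* ℂ) - ⇑(1 : M →* ℂ)) := by
    funext h
    have h' := congrArg (fun n : ℤ => (n : ℂ)) (fT_eq h)
    push_cast at h'
    rw [Pi.mul_apply, Pi.sub_apply, Pi.sub_apply, MonoidHom.one_apply, perm_eval subP4 inP4 mem_subP4,
      card_subs.2.2, show epsHom h = (eps h : ℂ) from rfl]
    push_cast
    linear_combination h' / 24
  rw [e]
  exact Char.IsGeneralizedCharacter.mul (Char.IsGeneralizedCharacter.sub (isGen_of_hom _) (isGen_of_hom _))
    (Char.IsGeneralizedCharacter.sub (isGen_perm _) (isGen_of_hom _))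

theorem isGen_fE : IsGeneralizedCharacter M (fun h => (fE h : ℂ)) := by
  have e : (fun h => (fE h : ℂ)) = (⇑(1 : M →* ℂ) - ⇑epsHom) *
      (indFun subC5 (1 : subC5 →* ℂ) - indFun subN5 (1 : subN5 →* ℂ) + (⇑(1 : M →* ℂ) + ⇑(1 : M →* ℂ))) := by
    funext h
    have h' := congrArg (fun n : ℤ => (n : ℂ)) (fE_eq h)
    push_cast at h'
    rw [Pi.mul_apply, Pi.sub_apply, Pi.add_apply, Pi.sub_apply, Pi.add_apply, MonoidHom.one_apply,
      perm_eval subC5 listC5 (fun m => (mem_subC5 m).trans (list_spec m).1),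
      perm_eval subN5 listN5 (fun m => (list_spec m).2), card_subs.1, card_subs.2.1,
      show epsHom h = (eps h : ℂ) from rfl]
    push_cast
    linear_combination h' / 20
  rw [e]
  exact Char.IsGeneralizedCharacter.mul (Char.IsGeneralizedCharacter.sub (isGen_of_hom _) (isGen_of_hom _))
    (Char.IsGeneralizedCharacter.add (Char.IsGeneralizedCharacter.sub (isGen_perm _) (isGen_perm _))
      (Char.IsGeneralizedCharacter.add (isGen_of_hom _) (isGen_of_hom _)))

theorem isGen_fC : IsGeneralizedCharacter M (fun h => (fC h : ℂ)) := by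
  have e : (fun h => (fC h : ℂ)) = -((⇑(1 : M →* ℂ) - ⇑epsHom) *
      (indFun subN5 (1 : subN5 →* ℂ) - (⇑(1 : M →* ℂ) + ⇑(1 : M →* ℂ)))) := by
    funext h
    have h' := congrArg (fun n : ℤ => (n : ℂ)) (fC_eq h)
    push_cast at h'
    rw [Pi.neg_apply, Pi.mul_apply, Pi.sub_apply, Pi.sub_apply, Pi.add_apply, MonoidHom.one_apply,
      perm_eval subN5 listN5 (fun m => (list_spec m).2), card_subs.2.1, show epsHom h = (eps h : ℂ) from rfl]
    push_cast
    linear_combination h' / 20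
  rw [e]
  exact Char.IsGeneralizedCharacter.neg (Char.IsGeneralizedCharacter.mul
    (Char.IsGeneralizedCharacter.sub (isGen_of_hom _) (isGen_of_hom _))
    (Char.IsGeneralizedCharacter.sub (isGen_perm _) (Char.IsGeneralizedCharacter.add (isGen_of_hom _) (isGen_of_hom _))))

end Cfsg.Agent.JankoRecog
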