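import Cfsg.Agent.Lib.JankoRecog.Collapse
import Cfsg.Agent.Lib.JankoRecog.Data.Table

/-!
# The surviving relation bounds the order by `1463` times the centraliser
-/

set_option autoImplicit false

namespace Cfsg.Agent.JankoRecog

open Cfsg.Agent.Presented (wval OrderLE closure_card_le)

/-- The relators in walk order, the surviving commutator relation included. -/
def rels : List (List ℕ) := allowed [1, 2, 1, 3, 2] [3, 2, 1]

theorem table_words :
    (Presented.JankoTable.cert.words.take Presented.JankoTable.cert.nR).all (fun w => rels.contains w) = true ∧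
    Presented.JankoTable.cert.words.drop Presented.JankoTable.cert.nR = [[0], [1], [2], [3]] ∧
    Presented.JankoTable.cert.N = 1463 ∧ Presented.JankoTable.cert.m = 5 := by decide +kernel

theorem orderLE_closure {K : Type*} [Group K] {s : ℕ → K} (hs : ∀ g, s g * s g = 1)
    (hrel : ∀ w ∈ rels, wval s w = 1) (H : Subgroup K) (hH : ∀ l < 4, s l ∈ H) {n : ℕ} (hn : OrderLE H n) :
    OrderLE (Subgroup.closure (s '' {g | g < 5})) (1463 * n) := by
  obtain ⟨h1, h2, h3, h4⟩ := table_words
  have := closure_card_le (s := s) Presented.JankoTable.cert_edgesOK Presented.JankoTable.cert_nodesOK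
    (fun g _ => hs g) (fun w hw => hrel w (by
      have := List.all_eq_true.1 h1 w hw
      simpa using this)) H (fun w hw => by
      rw [h2] at hw
      simp only [List.mem_cons, List.not_mem_nil, or_false] at hw
      rcases hw with rfl | rfl | rfl | rfl <;> simpa [wval] using hH _ (by norm_num)) hn
  rwa [h3, h4] at this

theorem Amalgam.rels_one {G : Type*} [Group G] (D : Amalgam G)
    (h : D.wv (commRel [1, 2, 1, 3, 2] [3, 2, 1]) = 1) : ∀ w ∈ rels, wval D.gens w = 1 :=
  D.allowed_one h

end Cfsg.Agent.JankoRecog
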