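import Cfsg.Agent.Lib.J1.Spectrum
import Cfsg.Agent.Lib.Janko.J1Simple
import Mathlib.GroupTheory.SpecificGroups.ZGroup
import Mathlib.GroupTheory.Sylow
import Mathlib.GroupTheory.SpecificGroups.Cyclic

/-!
# Subgroups of `J₁`: odd subgroups are small, three orders do not occur
-/

set_option autoImplicit false
set_option linter.style.haveILetI false

namespace Cfsg.Agent.JankoRecog

open Subgroup

theorem spectrum (g : Cfsg.Spor.J1) : ∃ m ∈ ([6, 7, 10, 11, 15, 19] : List ℕ), orderOf g ∣ m := by
  have h : orderOf g ∈ Set.range (orderOf : Cfsg.Spor.J1 → ℕ) := ⟨g, rfl⟩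
  rwa [Cfsg.Agent.J1.range_orderOf] at h

theorem orderOf_le (g : Cfsg.Spor.J1) : orderOf g ≤ 19 := by
  obtain ⟨m, hm, h⟩ := spectrum g
  simp only [List.mem_cons, List.not_mem_nil, or_false] at hm
  have := Nat.le_of_dvd (by omega) h
  omega

/-- Subgroups of odd order have at most 361 elements. -/
theorem card_le_of_odd (D : Subgroup Cfsg.Spor.J1) (hodd : Odd (Nat.card D)) : Nat.card D ≤ 361 := by
  have hdvd : Nat.card D ∣ 21945 := by
    have h := D.card_subgroup_dvd_card
    rw [Cfsg.Agent.Janko.J1.card_J1, show 175560 = 2 ^ 3 * 21945 by norm_num] at h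
    exact (Nat.Coprime.pow_right 3 ((Nat.coprime_two_right).2 hodd)).dvd_of_dvd_mul_left h
  haveI : IsZGroup D := IsZGroup.of_squarefree (Squarefree.squarefree_of_dvd hdvd (by decide +kernel))
  haveI := IsZGroup.isCyclic_commutator (G := D)
  have h1 : Nat.card (_root_.commutator D) ≤ 19 := by
    obtain ⟨c, hc⟩ := IsCyclic.exists_ofOrder_eq_natCard (α := _root_.commutator D)
    rw [← hc, ← orderOf_coe, ← orderOf_coe]
    exact orderOf_le _
  have h2 : Nat.card (Abelianization D) ≤ 19 := by
    obtain ⟨c, hc⟩ := IsCyclic.exists_ofOrder_eq_natCard (α := Abelianization D)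
    obtain ⟨d, rfl⟩ : ∃ d, Abelianization.of d = c := QuotientGroup.mk_surjective c
    rw [← hc]
    refine le_trans (Nat.le_of_dvd (orderOf_pos d) (orderOf_map_dvd _ d)) ?_
    rw [← orderOf_coe]
    exact orderOf_le _
  have h3 : Nat.card D = Nat.card (Abelianization D) * Nat.card (_root_.commutator D) :=
    card_eq_card_quotient_mul_card_subgroup (_root_.commutator D)
  rw [h3]
  exact (Nat.mul_le_mul h2 h1).trans_eq (by norm_num)

/-- The normaliser of a subgroup of prime order `p` dividing `175560`, self-centralising there. -/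
theorem normalizer_dvd {p : ℕ} (hp : p.Prime) (hpm : p = 11 ∨ p = 19) (H : Subgroup Cfsg.Spor.J1)
    (P : Sylow p H) (hP : Nat.card (P : Subgroup H) = p) :
    Nat.card (normalizer ((P : Subgroup H) : Set H)) ∣ p * (p - 1) := by
  haveI : Fact p.Prime := ⟨hp⟩
  obtain ⟨x, hx⟩ := exists_prime_orderOf_dvd_card' (G := (P : Subgroup H)) p (by rw [hP])
  have hz : zpowers (x : H) = (P : Subgroup H) :=
    eq_of_le_of_card_ge (zpowers_le.2 x.2) (by rw [hP, Nat.card_zpowers, orderOf_coe, hx])
  have hC : centralizer ((P : Subgroup H) : Set H) = (P : Subgroup H) := by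
    refine le_antisymm (fun y hy => ?_) fun y hy => ?_
    · by_contra hyP
      have hc : Commute y x := (mem_centralizer_iff.1 hy x x.2).symm
      obtain ⟨m, hm, hd⟩ := spectrum ((y * x : H) : Cfsg.Spor.J1)
      simp only [List.mem_cons, List.not_mem_nil, or_false] at hm
      have hxo : orderOf (x : H) = p := by rw [orderOf_coe, hx]
      rw [orderOf_coe] at hd
      obtain ⟨my, hmy, hdy⟩ := spectrum (y : Cfsg.Spor.J1)
      simp only [List.mem_cons, List.not_mem_nil, or_false] at hmy
      rw [orderOf_coe] at hdy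
      by_cases hpy : p ∣ orderOf y
      · have hyo : orderOf y = p := by
          refine Nat.dvd_antisymm ?_ hpy
          rcases hpm with rfl | rfl <;> rcases hmy with rfl | rfl | rfl | rfl | rfl | rfl <;>
            first | exact hdy | (have := hpy.trans hdy; norm_num at this)
        -- a group of order `p * p` would divide the order
        let Q : Subgroup H := zpowers y ⊔ (P : Subgroup H)
        have hQp : IsPGroup p Q := by
          refine (IsPGroup.to_sup_of_normal_right' (IsPGroup.of_card (n := 1) (by rw [Nat.card_zpowers, hyo, pow_one]))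
            P.2 ?_)
          rw [zpowers_le, mem_normalizer_iff]
          intro w
          constructor
          · intro hw
            rwa [← (mem_centralizer_iff.1 hy w hw), mul_inv_cancel_right]
          · intro hw
            have := mem_centralizer_iff.1 hy _ hw
            rw [show y * w * y⁻¹ * y = y * w by group] at this
            rwa [← mul_left_cancel this] at hw
        exact hyP (P.3 hQp le_sup_right ▸ (le_sup_left (a := zpowers y) (mem_zpowers y) : y ∈ Q))
      · have hcop : Nat.Coprime (orderOf y) (orderOf (x : H)) := by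
          rw [hxo, Nat.coprime_comm]; exact hp.coprime_iff_not_dvd.2 hpy
        rw [hc.orderOf_mul_eq_mul_orderOf_of_coprime hcop, hxo] at hd
        have hy1 : orderOf y ≠ 1 := fun h => hyP (by rw [orderOf_eq_one_iff.1 h]; exact one_mem _)
        have hy0 : 0 < orderOf y := orderOf_pos y
        rcases hpm with rfl | rfl <;> rcases hm with rfl | rfl | rfl | rfl | rfl | rfl <;>
          have hl := Nat.le_of_dvd (by norm_num) hd <;> omega
    · refine mem_centralizer_iff.2 fun w hw => ?_
      rw [← hz] at hy hw
      obtain ⟨i, rfl⟩ := mem_zpowers_iff.1 hy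
      obtain ⟨j, rfl⟩ := mem_zpowers_iff.1 hw
      exact (Commute.zpow_zpow_self _ _ _).eq
  set N := normalizer ((P : Subgroup H) : Set H)
  set ψ := (P : Subgroup H).normalizerMonoidHom
  haveI : IsCyclic (P : Subgroup H) := isCyclic_of_prime_card hP
  have h1 : Nat.card ψ.ker = p := by
    rw [Subgroup.normalizerMonoidHom_ker, hC, Nat.card_congr (subgroupOfEquivOfLe le_normalizer).toEquiv, hP]
  have h2 : Nat.card ψ.range ∣ p - 1 := by
    have := ψ.range.card_subgroup_dvd_card
    rwa [IsCyclic.card_mulAut, hP, Nat.totient_prime hp] at this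
  rw [← ψ.ker.card_mul_index, Subgroup.index_ker, h1]
  exact mul_dvd_mul_left p h2

theorem arith_check : ∀ d ∈ Nat.divisors 110, d ∣ 9240 → 11 ∣ d → 9240 / d % 11 ≠ 1 := by decide +kernel

theorem arith_check' : ∀ d ∈ Nat.divisors 342, d ∣ 15960 → 19 ∣ d → 15960 / d % 19 ≠ 1 := by decide +kernel

/-- The orders 9240 and 15960 do not occur. -/
theorem card_ne (H : Subgroup Cfsg.Spor.J1) : Nat.card H ≠ 9240 ∧ Nat.card H ≠ 15960 := by
  have key : ∀ p : ℕ, (p = 11 ∨ p = 19) → ∀ n, Nat.card H = n → n.factorization p = 1 →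
      (∀ d ∈ Nat.divisors (p * (p - 1)), d ∣ n → p ∣ d → n / d % p ≠ 1) → False := by
    intro p hpm n hn hf hcheck
    have hp : p.Prime := by rcases hpm with rfl | rfl <;> norm_num
    haveI : Fact p.Prime := ⟨hp⟩
    obtain ⟨P⟩ : Nonempty (Sylow p H) := inferInstance
    have hP : Nat.card (P : Subgroup H) = p := by rw [P.card_eq_multiplicity, hn, hf, pow_one]
    have hd := normalizer_dvd hp hpm H P hP
    set N := normalizer ((P : Subgroup H) : Set H)
    have hmul := N.card_mul_index
    rw [show N.index = Nat.card (Sylow p H) from P.card_eq_index_normalizer.symm, hn] at hmul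
    have hN0 : 0 < Nat.card N := Nat.card_pos
    refine hcheck _ (Nat.mem_divisors.2 ⟨hd, by rcases hpm with rfl | rfl <;> norm_num⟩) ⟨_, hmul.symm⟩
      (hP ▸ card_dvd_of_le le_normalizer) ?_
    rw [← hmul, Nat.mul_div_cancel_left _ hN0]
    have h := card_sylow_modEq_one p H
    rw [Nat.ModEq, Nat.mod_eq_of_lt hp.one_lt] at h
    exact h
  constructor <;> intro h
  · refine key 11 (Or.inl rfl) _ h ?_ arith_check
    rw [show 9240 = 11 ^ 1 * 840 by norm_num, Nat.factorization_mul (by norm_num) (by norm_num), Finsupp.add_apply,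
      Nat.Prime.factorization_pow (by norm_num), Finsupp.single_eq_same,
      Nat.factorization_eq_zero_of_not_dvd (by norm_num : ¬ 11 ∣ 840)]
  · refine key 19 (Or.inr rfl) _ h ?_ arith_check'
    rw [show 15960 = 19 ^ 1 * 840 by norm_num, Nat.factorization_mul (by norm_num) (by norm_num), Finsupp.add_apply,
      Nat.Prime.factorization_pow (by norm_num), Finsupp.single_eq_same,
      Nat.factorization_eq_zero_of_not_dvd (by norm_num : ¬ 19 ∣ 840)]

end Cfsg.Agent.JankoRecog
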