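import Cfsg.Agent.Lib.JankoRecog.Amalgam
import Cfsg.Agent.Lib.EightSylow.Fusion
import Mathlib.GroupTheory.Sylow

/-!
# The amalgam inside a simple group with the centraliser `Z/2 × A₅`
-/

set_option autoImplicit false
set_option linter.style.haveILetI false

namespace Cfsg.Agent.JankoRecog

open Subgroup
open scoped Pointwise

/-- The elements of the Sylow subgroup of the model. -/
def inS (m : M) : Prop := m * α1 = α1 * m ∧ m * α3 = α3 * m

instance : DecidablePred inS := fun m => by unfold inS; infer_instance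

/-- The Sylow subgroup of the model. -/
def subS : Subgroup M where
  carrier := {m | inS m}
  one_mem' := ⟨by rw [one_mul, mul_one], by rw [one_mul, mul_one]⟩
  mul_mem' {a b} ha hb := by
    obtain ⟨a1, a3⟩ := ha
    obtain ⟨b1, b3⟩ := hb
    exact ⟨by rw [mul_assoc, b1, ← mul_assoc, a1, mul_assoc], by rw [mul_assoc, b3, ← mul_assoc, a3, mul_assoc]⟩
  inv_mem' {a} ha := ⟨((Commute.symm ha.1).inv_right).eq.symm, ((Commute.symm ha.2).inv_right).eq.symm⟩

instance : DecidablePred (· ∈ subS) := fun m => inferInstanceAs (Decidable (inS m))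

/-- The transposition automorphism inverting `cM`. -/
def σ : M ≃* M :=
  MulEquiv.prodCongr (MulEquiv.refl _) (MulAut.conjNormal (Equiv.swap (0 : Fin 5) 1))

theorem card_subS : Nat.card subS = 8 := by rw [Nat.card_eq_fintype_card]; decide +kernel

theorem subS_sq : ∀ m : M, inS m → m * m = 1 := by decide +kernel

theorem subS_comm : ∀ a : M, inS a → ∀ b : M, inS b → a * b = b * a := by decide +kernel

theorem subS_gens : inS z ∧ inS α1 ∧ inS α3 ∧ inS (z * α3) ∧ inS (cM * α1 * cM⁻¹) := by decide +kernel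

theorem subS_list : ∀ m : M, inS m → m ∈ [1, z, α1, cM * α1 * cM⁻¹, z * α1, α1 * (cM * α1 * cM⁻¹),
    z * (cM * α1 * cM⁻¹) * α1, z * (cM * α1 * cM⁻¹)] := by
  decide +kernel

theorem fixed_cM : ∀ m : M, inS m → cM * m * cM⁻¹ = m → m = 1 ∨ m = z := by decide +kernel

theorem cM_normalises : ∀ m : M, inS m → inS (cM * m * cM⁻¹) ∧ inS (cM⁻¹ * m * cM) := by decide +kernel

theorem normaliser_count :
    (Finset.univ.filter fun m : M => inS (m * α1 * m⁻¹) ∧ inS (m * α3 * m⁻¹)).card = 24 := by decide +kernel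

theorem normalises_iff : ∀ m : M, (inS (m * α1 * m⁻¹) ∧ inS (m * α3 * m⁻¹)) →
    ∀ x : M, inS (m * x * m⁻¹) ↔ inS x := by decide +kernel

theorem cM_sq_identities : cM * cM * α1 * (cM * cM)⁻¹ = α1 * (cM * α1 * cM⁻¹) ∧
    α1 * (cM * α1 * cM⁻¹) = α3 ∧ cM * α1 * cM⁻¹ * (z * α1) = z * α3 ∧
    z * α1 * (cM * α1 * cM⁻¹) = z * α3 := by decide +kernel

theorem noncomm : ¬ α1 * α2 = α2 * α1 := by decide +kernel

theorem divisors_check : ∀ n ∈ Nat.divisors 24, n % 7 = 1 → ¬ 3 ∣ n := by decide +kernel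

theorem σ_facts : σ cM = cM⁻¹ ∧ σ z = z ∧ inS (σ α1) ∧ inS (σ α3) ∧ σ (σ α1) = α1 := by decide +kernel

theorem σ_inS : ∀ m : M, inS (σ m) ↔ inS m := by decide +kernel

variable {G : Type*} [Group G]

theorem conj_cM_z (φ : M →* G) : φ cM * φ z * (φ cM)⁻¹ = φ z := by
  rw [← map_mul, ← map_inv, ← map_mul, z_comm, mul_inv_cancel_right]

theorem mem_range_iff {φ : M →* G} {t : G} (hr : φ.range = centralizer ({t} : Set G)) (x : G) :
    x * t = t * x ↔ ∃ m, φ m = x := by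
  rw [← mem_centralizer_singleton_iff, ← hr, MonoidHom.mem_range]

/-- The amalgam from a normalising element of order seven. -/
theorem exists_amalgam_of_seven (φ : M →* G) (hinj : Function.Injective φ)
    (hr : φ.range = centralizer ({φ z} : Set G)) {g₀ : G} (h7 : g₀ ^ 7 = 1)
    (hc : φ cM * g₀ * (φ cM)⁻¹ = g₀ ^ 2) (hz : ∃ k : ℕ, g₀ ^ k * φ z * (g₀ ^ k)⁻¹ = φ α1) :
    ∃ D : Amalgam G, D.φ = φ := by
  obtain ⟨k, hk⟩ := hz
  set g := g₀ ^ k with hg
  have g7 : g ^ 7 = 1 := by rw [hg, ← pow_mul, mul_comm, pow_mul, h7, one_pow]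
  have gc : φ cM * g * (φ cM)⁻¹ = g ^ 2 := by
    rw [hg, ← conj_pow, hc, ← pow_mul, ← pow_mul, mul_comm]
  have cz := conj_cM_z φ
  set c := φ cM with hcdef
  obtain ⟨i1, i2, i3, i4⟩ := cM_sq_identities
  have cz' : c⁻¹ * φ z * c = φ z := by
    rw [mul_assoc, inv_mul_eq_iff_eq_mul]
    calc φ z * c = c * φ z * c⁻¹ * c := by rw [cz]
      _ = c * φ z := by group
  have h2 : g ^ 2 * φ z * (g ^ 2)⁻¹ = φ (cM * α1 * cM⁻¹) := by
    rw [map_mul, map_mul, map_inv, ← hcdef, ← hk, ← gc]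
    calc c * g * c⁻¹ * φ z * (c * g * c⁻¹)⁻¹ = c * g * (c⁻¹ * φ z * c) * g⁻¹ * c⁻¹ := by group
      _ = c * (g * φ z * g⁻¹) * c⁻¹ := by rw [cz']; group
  have hα1 : g * φ α1 * g⁻¹ = φ (cM * α1 * cM⁻¹) := by
    rw [← hk, ← h2, pow_two]
    group
  have h4 : g ^ 4 * φ z * (g ^ 4)⁻¹ = φ (α1 * (cM * α1 * cM⁻¹)) := by
    rw [← i1, map_mul, map_mul, map_inv, map_mul, ← hcdef]
    have e : c * c * g * (c * c)⁻¹ = g ^ 4 := by
      rw [show c * c * g * (c * c)⁻¹ = c * (c * g * c⁻¹) * c⁻¹ by group, gc, ← conj_pow, gc, ← pow_mul]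
    rw [← e, ← hk]
    calc c * c * g * (c * c)⁻¹ * φ z * (c * c * g * (c * c)⁻¹)⁻¹
        = c * c * g * (c⁻¹ * (c⁻¹ * φ z * c) * c) * g⁻¹ * (c * c)⁻¹ := by
          simp only [mul_inv_rev, inv_inv, mul_assoc]
      _ = c * c * (g * φ z * g⁻¹) * (c * c)⁻¹ := by rw [cz', cz']; group
  have h3 : g ^ 3 * φ z * (g ^ 3)⁻¹ = φ (z * α1) := by
    have : g * (g ^ 3 * φ z * (g ^ 3)⁻¹) * g⁻¹ = g * φ (z * α1) * g⁻¹ := by
      calc g * (g ^ 3 * φ z * (g ^ 3)⁻¹) * g⁻¹ = g ^ 4 * φ z * (g ^ 4)⁻¹ := by group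
        _ = (g * φ z * g⁻¹) * (g * φ α1 * g⁻¹) := by rw [h4, hk, hα1, map_mul]
        _ = g * φ (z * α1) * g⁻¹ := by rw [map_mul]; group
    exact mul_left_cancel (mul_right_cancel this)
  refine ⟨{ φ := φ, inj := hinj, range_eq := hr, g := g, g_pow := g7, g_c := gc, g_z := hk,
            g_α1 := hα1, g_α3 := ?_ }, rfl⟩
  rw [← i3, ← i2, map_mul, map_mul φ (cM * α1 * cM⁻¹) (z * α1), ← h3]
  conv_rhs => rw [← hα1]
  calc g * (φ α1 * φ (cM * α1 * cM⁻¹)) * g⁻¹
      = g * φ α1 * g⁻¹ * (g * φ (cM * α1 * cM⁻¹) * g⁻¹) := by group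
    _ = g * φ α1 * g⁻¹ * (g ^ 3 * φ z * (g ^ 3)⁻¹) := by rw [← h2]; group

variable [Finite G]

set_option maxHeartbeats 1000000 in
/-- The seven-part of the normaliser gives the amalgam. -/
theorem exists_amalgam [IsSimpleGroup G] (h8 : ∀ P : Sylow 2 G, Nat.card (P : Subgroup G) = 8) {t : G}
    (ht : orderOf t = 2) (e : centralizer ({t} : Set G) ≃* M) : ∃ D : Amalgam G, D.φ z = t := by
  classical
  haveI : Fact (Nat.Prime 2) := ⟨Nat.prime_two⟩
  haveI : Fact (Nat.Prime 7) := ⟨by norm_num⟩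
  obtain ⟨hz2, h12, -, h32, hz1, h11, h1z⟩ := model_involutions
  set φ₀ : M →* G := (centralizer ({t} : Set G)).subtype.comp e.symm.toMonoidHom with hφ₀
  have hinj : Function.Injective φ₀ := fun a b h => e.symm.injective (Subtype.ext h)
  have hr₀ : φ₀.range = centralizer ({t} : Set G) := by
    ext x
    constructor
    · rintro ⟨m, rfl⟩; exact (e.symm m).2
    · intro hx; exact ⟨e ⟨x, hx⟩, by simp [hφ₀]⟩
  have ht2 : t * t = 1 := by rw [← pow_two, ← ht, pow_orderOf_eq_one]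
  have ht1 : t ≠ 1 := fun h => by rw [h, orderOf_one] at ht; omega
  have htz : φ₀ z = t := by
    obtain ⟨u, hu⟩ : t ∈ φ₀.range := hr₀ ▸ mem_centralizer_singleton_iff.2 rfl
    have hcomm : ∀ v, u * v = v * u := fun v => hinj (by
      rw [map_mul, map_mul, hu]
      exact (mem_centralizer_singleton_iff.1 (hr₀ ▸ ⟨v, rfl⟩)).symm)
    rw [← centre_involution u ⟨hcomm _, hcomm _, hcomm _, fun h => ht1 (by rw [← hu, h, map_one])⟩, hu]
  -- the Sylow subgroup
  obtain ⟨P⟩ : Nonempty (Sylow 2 G) := inferInstance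
  have hfac : 2 ^ (Nat.card G).factorization 2 = 8 := by rw [← P.card_eq_multiplicity]; exact h8 P
  set T := subS.map φ₀ with hT
  have hT8 : Nat.card T = 8 := by rw [card_map_of_injective hinj, card_subS]
  let S : Sylow 2 G := Sylow.ofCard T (by rw [hT8, hfac])
  have hSm : ∀ m : M, φ₀ m ∈ (S : Subgroup G) ↔ inS m := fun m => by
    show φ₀ m ∈ T ↔ _
    rw [hT, mem_map_iff_mem hinj]; rfl
  have hSel : ∀ x ∈ (S : Subgroup G), ∃ m, inS m ∧ φ₀ m = x := fun x hx => hx
  have hel : Cfsg.IsElementaryAbelian 2 (S : Subgroup G) := by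
    refine ⟨⟨⟨fun a b => ?_⟩⟩, fun a ha => ?_⟩
    · obtain ⟨m, hm, hma⟩ := hSel a a.2
      obtain ⟨n, hn, hnb⟩ := hSel b b.2
      exact Subtype.ext (show (a : G) * b = b * a by rw [← hma, ← hnb, ← map_mul, ← map_mul, subS_comm m hm n hn])
    · obtain ⟨m, hm, rfl⟩ := hSel a ha
      rw [pow_two, ← map_mul, subS_sq m hm, map_one]
  have hnc : ¬ IsMulCommutative G := fun h => by
    exact noncomm (hinj (by rw [map_mul, map_mul]; exact h.is_comm.comm _ _))
  have hperf := EightSylow.commutator_eq_top hnc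
  have htS : t ∈ (S : Subgroup G) := htz ▸ (hSm z).2 subS_gens.1
  set N := normalizer ((S : Subgroup G) : Set G) with hN
  have hcN : φ₀ cM ∈ N := by
    rw [hN, Subgroup.mem_normalizer_iff]
    intro x
    constructor
    · intro hx
      obtain ⟨m, hm, rfl⟩ := hSel x hx
      rw [← map_inv, ← map_mul, ← map_mul]
      exact (hSm _).2 (cM_normalises m hm).1
    · intro hx
      obtain ⟨m, hm, hmx⟩ := hSel _ hx
      rw [show x = φ₀ (cM⁻¹ * m * cM) by rw [map_mul, map_mul, hmx, map_inv]; group]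
      exact (hSm _).2 (cM_normalises m hm).2
  -- the order of the normaliser
  set tS : (S : Subgroup G) := ⟨t, htS⟩
  have htS1 : tS ≠ 1 := fun h => ht1 (congrArg Subtype.val h)
  letI : MulAction N (S : Subgroup G) := MulAction.compHom _ (EightSylow.nhom S)
  have hsmul : ∀ (n : N) (x : (S : Subgroup G)), ((n • x : (S : Subgroup G)) : G) = n * x * (n : G)⁻¹ :=
    fun n x => rfl
  have horb : Nat.card (MulAction.orbit N tS) = 7 := by
    have e' : MulAction.orbit N tS = {u | u ≠ 1} := by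
      ext u
      refine ⟨?_, fun hu => ?_⟩
      · rintro ⟨n, rfl⟩ h
        have := congrArg Subtype.val h
        rw [hsmul, OneMemClass.coe_one, conj_eq_one_iff] at this
        exact ht1 this
      · obtain ⟨n, hn⟩ := EightSylow.transitive S hel (h8 S) hperf htS1 hu
        exact ⟨n, hn⟩
    rw [e', Nat.card_coe_set_eq, show {u : (S : Subgroup G) | u ≠ 1} = ({1} : Set (S : Subgroup G))ᶜ from rfl,
      Set.ncard_compl, Set.ncard_singleton, h8 S]
  have hstab : Nat.card (MulAction.stabilizer N tS) = 24 := by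
    rw [← normaliser_count, ← Fintype.card_subtype, ← Nat.card_eq_fintype_card]
    refine (Nat.card_congr (Equiv.ofBijective (fun m : {m : M // inS (m * α1 * m⁻¹) ∧ inS (m * α3 * m⁻¹)} =>
      (⟨⟨φ₀ m.1, ?_⟩, ?_⟩ : MulAction.stabilizer N tS)) ⟨?_, ?_⟩)).symm
    · rw [hN, Subgroup.mem_normalizer_iff]
      intro x
      constructor
      · intro hx
        obtain ⟨a, ha, rfl⟩ := hSel x hx
        rw [← map_inv, ← map_mul, ← map_mul]
        exact (hSm _).2 ((normalises_iff m.1 m.2 a).2 ha)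
      · intro hx
        obtain ⟨a, ha, hax⟩ := hSel _ hx
        rw [show x = φ₀ (m.1⁻¹ * a * m.1) by rw [map_mul, map_mul, hax, map_inv]; group]
        refine (hSm _).2 ((normalises_iff m.1 m.2 _).1 ?_)
        rwa [show m.1 * (m.1⁻¹ * a * m.1) * m.1⁻¹ = a by group]
    · refine Subtype.ext ?_
      rw [hsmul]
      show φ₀ m.1 * t * (φ₀ m.1)⁻¹ = t
      rw [← htz, ← map_mul, z_comm, map_mul, mul_inv_cancel_right]
    · intro a b h
      exact Subtype.ext (hinj (congrArg (fun n : MulAction.stabilizer N tS => ((n : N) : G)) h))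
    · rintro ⟨⟨x, hx⟩, hfix⟩
      have hfix' : x * t * x⁻¹ = t := congrArg Subtype.val hfix
      obtain ⟨m, rfl⟩ := (mem_range_iff hr₀ x).1 (by
        calc x * t = x * t * x⁻¹ * x := by group
          _ = t * x := by rw [hfix'])
      rw [hN, Subgroup.mem_normalizer_iff] at hx
      refine ⟨⟨m, ?_, ?_⟩, rfl⟩
      · rw [← hSm, map_mul, map_mul, map_inv]; exact (hx _).1 ((hSm _).2 subS_gens.2.1)
      · rw [← hSm, map_mul, map_mul, map_inv]; exact (hx _).1 ((hSm _).2 subS_gens.2.2.1)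
  have hN168 : Nat.card N = 168 := by
    have h := Subgroup.index_mul_card (MulAction.stabilizer N tS)
    rw [Subgroup.index, ← Nat.card_congr (MulAction.orbitEquivQuotientStabilizer N tS), horb, hstab] at h
    omega
  -- a subgroup of order seven normalised by `cM`
  have hcard7 : ∀ Q : Sylow 7 N, Nat.card (Q : Subgroup N) = 7 := fun Q => by
    rw [Q.card_eq_multiplicity, hN168, show (168 : ℕ).factorization 7 = 1 from by
      rw [show 168 = 7 ^ 1 * 24 by norm_num, Nat.factorization_mul (by norm_num) (by norm_num), Finsupp.add_apply,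
        Nat.Prime.factorization_pow (by norm_num), Finsupp.single_eq_same,
        Nat.factorization_eq_zero_of_not_dvd (by norm_num : ¬ 7 ∣ 24)]]
    norm_num
  set cN : N := ⟨φ₀ cM, hcN⟩
  obtain ⟨hc3, hc1, -⟩ := cM_facts
  have hcN3 : cN ^ 3 = 1 := Subtype.ext (show φ₀ cM ^ 3 = 1 by rw [← map_pow, hc3, map_one])
  obtain ⟨Q, hQ⟩ : ∃ Q : Sylow 7 N, cN • Q = Q := by
    haveI : Fact (Nat.Prime 3) := ⟨Nat.prime_three⟩
    have hP3 : IsPGroup 3 (zpowers cN) := IsPGroup.of_card (n := 1) (by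
      rw [Nat.card_zpowers, pow_one]
      exact orderOf_eq_prime hcN3 fun h => hc1 (hinj (by rw [map_one]; exact congrArg Subtype.val h)))
    have hn := card_sylow_modEq_one 7 N
    obtain ⟨Q⟩ : Nonempty (Sylow 7 N) := inferInstance
    have hdvd : Nat.card (Sylow 7 N) ∣ 24 := by
      have hd := Q.card_dvd_index
      have hi := (Q : Subgroup N).card_mul_index
      rw [hcard7, hN168] at hi
      rwa [show (Q : Subgroup N).index = 24 by omega] at hd
    have h3 : ¬ 3 ∣ Nat.card (Sylow 7 N) := by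
      refine divisors_check _ (Nat.mem_divisors.2 ⟨hdvd, by norm_num⟩) ?_
      simpa [Nat.ModEq] using hn
    obtain ⟨Q, hQ⟩ := hP3.nonempty_fixed_point_of_prime_not_dvd_card (Sylow 7 N) h3
    exact ⟨Q, hQ ⟨cN, mem_zpowers _⟩⟩
  obtain ⟨g₁, hg₁⟩ := exists_prime_orderOf_dvd_card' (G := (Q : Subgroup N)) 7 (by rw [hcard7])
  set g₀ : G := ((g₁ : N) : G) with hg₀
  have hg₀o : orderOf g₀ = 7 := by rw [hg₀, Subgroup.orderOf_coe, Subgroup.orderOf_coe, hg₁]
  have hQz : (Q : Subgroup N) = zpowers (g₁ : N) :=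
    (eq_of_le_of_card_ge (zpowers_le.2 g₁.2) (by
      rw [hcard7, Nat.card_zpowers, Subgroup.orderOf_coe, hg₁])).symm
  obtain ⟨r, hr7, hr⟩ : ∃ r : ℕ, r < 7 ∧ φ₀ cM * g₀ * (φ₀ cM)⁻¹ = g₀ ^ r := by
    have hmem : cN * (g₁ : N) * cN⁻¹ ∈ (Q : Subgroup N) := by
      have hmap : ((cN • Q : Sylow 7 N) : Subgroup N) = MulAut.conj cN • (Q : Subgroup N) := rfl
      rw [hQ] at hmap
      refine hmap.ge ?_
      rw [mem_pointwise_smul_iff_inv_smul_mem]
      simp only [MulAut.smul_def, MulAut.conj_inv_apply]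
      rw [show cN⁻¹ * (cN * (g₁ : N) * cN⁻¹) * cN = g₁ by group]
      exact g₁.2
    replace hmem := mem_zpowers_iff.1 (hQz.le hmem)
    obtain ⟨j, hj⟩ := hmem
    have hj' : φ₀ cM * g₀ * (φ₀ cM)⁻¹ = g₀ ^ j := by
      have := congrArg Subtype.val hj
      push_cast at this
      exact this.symm
    refine ⟨(j % 7).toNat, by omega, ?_⟩
    rw [hj', ← zpow_natCast, Int.toNat_of_nonneg (Int.emod_nonneg _ (by norm_num)),
      show ((7 : ℤ)) = ((orderOf g₀ : ℕ) : ℤ) by rw [hg₀o]; norm_num, zpow_mod_orderOf]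
  have hg7 : g₀ ^ 7 = 1 := by rw [← hg₀o, pow_orderOf_eq_one]
  have hg1 : g₀ ≠ 1 := fun h => by rw [h, orderOf_one] at hg₀o; omega
  have hg₀N : g₀ ∈ N := (g₁ : N).2
  have hr124 : r = 2 ∨ r = 4 := by
    set c := φ₀ cM with hc
    have hpow : ∀ n : ℕ, c * g₀ ^ n * c⁻¹ = g₀ ^ (r * n) := fun n => by rw [← conj_pow, hr, pow_mul]
    have h3 : g₀ ^ (r * (r * r)) = g₀ := by
      have hc3' : c ^ 3 = 1 := by rw [hc, ← map_pow, hc3, map_one]
      rw [← hpow, ← hpow]
      nth_rewrite 1 [← hr]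
      calc c * (c * (c * g₀ * c⁻¹) * c⁻¹) * c⁻¹ = c ^ 3 * g₀ * (c ^ 3)⁻¹ := by
            simp [pow_succ, mul_inv_rev, mul_assoc]
        _ = g₀ := by rw [hc3', one_mul, inv_one, mul_one]
    have hmod : r * (r * r) % 7 = 1 := by
      have := pow_inj_mod.1 (h3.trans (pow_one g₀).symm)
      rwa [hg₀o] at this
    have hr1 : r ≠ 1 := by
      intro h
      subst h
      rw [pow_one] at hr
      -- then `g₀` centralises `t`
      obtain ⟨m, hm, hmt⟩ := hSel _ ((Subgroup.mem_normalizer_iff.1 hg₀N t).1 htS)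
      have hfix : cM * m * cM⁻¹ = m := hinj (by
        rw [map_mul, map_mul, map_inv, hmt, ← hc]
        calc c * (g₀ * t * g₀⁻¹) * c⁻¹ = c * g₀ * c⁻¹ * (c * t * c⁻¹) * (c * g₀ * c⁻¹)⁻¹ := by group
          _ = g₀ * t * g₀⁻¹ := by rw [hr, hc, ← htz, conj_cM_z])
      rcases fixed_cM m hm hfix with rfl | rfl
      · rw [map_one] at hmt
        exact ht1 (conj_eq_one_iff.1 hmt.symm)
      · rw [htz] at hmt
        obtain ⟨n, hn⟩ := (mem_range_iff hr₀ g₀).1 (by
          calc g₀ * t = g₀ * t * g₀⁻¹ * g₀ := by group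
            _ = t * g₀ := by rw [← hmt])
        have h7 : n ^ 7 = 1 := hinj (by rw [map_pow, hn, hg7, map_one])
        have h120 : n ^ 120 = 1 := by have := pow_card_eq_one (x := n); rwa [card_M] at this
        have hn1 : n = 1 := by simpa using pow_gcd_eq_one.2 ⟨h7, h120⟩
        exact hg1 (by rw [← hn, hn1, map_one])
    interval_cases r <;> omega
  -- transitivity along the cyclic group
  have hk : ∀ u : (S : Subgroup G), u ≠ 1 → ∃ k : ℕ, g₀ ^ k * t * (g₀ ^ k)⁻¹ = u := by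
    intro u hu
    set a := EightSylow.nhom S ⟨g₀, hg₀N⟩ with ha
    have hao : orderOf a = 7 := by
      refine orderOf_eq_prime ?_ fun h => ?_
      · rw [ha, ← map_pow, show (⟨g₀, hg₀N⟩ : N) ^ 7 = 1 from Subtype.ext hg7, map_one]
      · have hc' := (EightSylow.nhom_ker S _).1 h
        obtain ⟨n, hn⟩ := (mem_range_iff hr₀ g₀).1 (mem_centralizer_iff.1 hc' t htS).symm
        have h7 : n ^ 7 = 1 := hinj (by rw [map_pow, hn, hg7, map_one])
        have h120 : n ^ 120 = 1 := by have := pow_card_eq_one (x := n); rwa [card_M] at this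
        have hn1 : n = 1 := by simpa using pow_gcd_eq_one.2 ⟨h7, h120⟩
        exact hg1 (by rw [← hn, hn1, map_one])
    obtain ⟨k, hk⟩ := EightSylow.orbit_seven S hel (h8 S) a hao htS1 hu
    refine ⟨k, ?_⟩
    rw [ha, ← map_pow] at hk
    exact congrArg Subtype.val hk
  have finish : ∀ φ : M →* G, Function.Injective φ → φ.range = centralizer ({φ z} : Set G) → φ z = t →
      φ cM * g₀ * (φ cM)⁻¹ = g₀ ^ 2 → φ α1 ∈ (S : Subgroup G) → ∃ D : Amalgam G, D.φ z = t := by
    intro φ h1 h2 h3 h4 h5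
    obtain ⟨k, hk'⟩ := hk ⟨φ α1, h5⟩ fun h => h11 (h1 (by rw [map_one]; exact congrArg Subtype.val h))
    obtain ⟨D, hD⟩ := exists_amalgam_of_seven φ h1 h2 hg7 h4 ⟨k, by rw [h3]; exact hk'⟩
    exact ⟨D, by rw [hD, h3]⟩
  rcases hr124 with rfl | rfl
  · exact finish φ₀ hinj (by rw [htz]; exact hr₀) htz hr ((hSm _).2 subS_gens.2.1)
  · obtain ⟨s1, s2, s3, -⟩ := σ_facts
    refine finish (φ₀.comp σ.toMonoidHom) (hinj.comp σ.injective) ?_ ?_ ?_ ?_
    · rw [MonoidHom.range_comp, MonoidHom.range_eq_top.2 σ.surjective, ← MonoidHom.range_eq_map]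
      simp only [MonoidHom.comp_apply, MulEquiv.coe_toMonoidHom, s2, htz]
      exact hr₀
    · simp only [MonoidHom.comp_apply, MulEquiv.coe_toMonoidHom, s2, htz]
    · simp only [MonoidHom.comp_apply, MulEquiv.coe_toMonoidHom, s1, map_inv, inv_inv]
      have h4 : φ₀ cM * g₀ ^ 2 * (φ₀ cM)⁻¹ = g₀ := by
        rw [← conj_pow, hr, ← pow_mul, show 4 * 2 = 7 + 1 from rfl, pow_succ, hg7, one_mul]
      nth_rewrite 1 [← h4]
      group
    · exact (hSm _).2 s3

end Cfsg.Agent.JankoRecog
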