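import Mathlib.GroupTheory.SpecificGroups.Alternating
import Mathlib.Data.ZMod.Basic
import Mathlib.Algebra.Group.TypeTags.Finite
import Mathlib.Data.Fintype.Prod
import Mathlib.Data.Fintype.Perm

/-!
# The model `Z/2 × A₅` of the involution centraliser of `J₁`
-/

set_option autoImplicit false

namespace Cfsg.Agent.JankoRecog

/-- The model. -/
abbrev M : Type := Multiplicative (ZMod 2) × alternatingGroup (Fin 5)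

/-- The central involution. -/
def z : M := (Multiplicative.ofAdd 1, 1)

/-- An element of the alternating factor. -/
def alt (σ : Equiv.Perm (Fin 5)) (h : Equiv.Perm.sign σ = 1 := by decide +kernel) : M := (1, ⟨σ, Equiv.Perm.mem_alternatingGroup.2 h⟩)

/-- `(0 1)(2 3)`. -/
def α1 : M := alt (Equiv.swap 0 1 * Equiv.swap 2 3)
/-- `(1 3)(2 4)`. -/
def α2 : M := alt (Equiv.swap 1 3 * Equiv.swap 2 4)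
/-- `(0 2)(1 3)`. -/
def α3 : M := alt (Equiv.swap 0 2 * Equiv.swap 1 3)
/-- `(0 1 2)`. -/
def cM : M := alt (Equiv.swap 0 1 * Equiv.swap 1 2)

/-- The values of the four generators. -/
def mgen : ℕ → M
  | 0 => z
  | 1 => α1
  | 2 => α2
  | _ => α3

/-- The value of a word in the four generators. -/
def wM (w : List ℕ) : M := (w.map mgen).prod

theorem model_involutions : z * z = 1 ∧ α1 * α1 = 1 ∧ α2 * α2 = 1 ∧ α3 * α3 = 1 ∧ z ≠ 1 ∧ α1 ≠ 1 ∧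
    α1 ≠ z := by decide +kernel

theorem cM_facts : cM ^ 3 = 1 ∧ cM ≠ 1 ∧ cM * z = z * cM ∧ wM [1, 2, 1, 2, 1, 3, 2] = cM ∧
    α1 * (cM * α1 * cM⁻¹) = α3 * 1 * 1 ∧ cM * (cM * α1 * cM⁻¹) * cM⁻¹ = α1 * (cM * α1 * cM⁻¹) ∧
    cM * α3 * cM⁻¹ = α1 := by decide +kernel

theorem card_M : Fintype.card M = 120 := by decide +kernel

theorem z_comm : ∀ m : M, m * z = z * m := by decide +kernel

theorem centre_involution : ∀ u : M, (u * α1 = α1 * u ∧ u * α2 = α2 * u ∧ u * α3 = α3 * u ∧ u ≠ 1) → u = z := by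
  decide +kernel

theorem involution_cases : ∀ u : M, u * u = 1 → u ≠ 1 → u = z ∨
    ∃ m : M, m * α1 * m⁻¹ = u ∨ m * (z * α1) * m⁻¹ = u := by decide +kernel

/-- Words for all elements of the model. -/
def allWords : List (List ℕ) :=
  [[], [1], [2], [3], [1, 2], [1, 3],
   [2, 1], [2, 3], [3, 2], [1, 2, 1], [1, 2, 3], [1, 3, 2],
   [2, 1, 2], [2, 1, 3], [2, 3, 2], [3, 2, 1], [1, 2, 1, 2], [1, 2, 1, 3],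
   [1, 2, 3, 2], [1, 3, 2, 1], [2, 1, 2, 1], [2, 1, 2, 3], [2, 1, 3, 2], [2, 3, 2, 1],
   [3, 2, 1, 2], [1, 2, 1, 2, 1], [1, 2, 1, 2, 3], [1, 2, 1, 3, 2], [1, 2, 3, 2, 1], [1, 3, 2, 1, 2],
   [2, 1, 2, 1, 3], [2, 1, 2, 3, 2], [2, 1, 3, 2, 1], [2, 3, 2, 1, 2], [3, 2, 1, 2, 1], [3, 2, 1, 2, 3],
   [1, 2, 1, 2, 1, 3], [1, 2, 1, 2, 3, 2], [1, 2, 1, 3, 2, 1], [1, 2, 3, 2, 1, 2], [1, 3, 2, 1, 2, 1], [1, 3, 2, 1, 2, 3],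
   [2, 1, 2, 1, 3, 2], [2, 1, 2, 3, 2, 1], [2, 1, 3, 2, 1, 2], [2, 3, 2, 1, 2, 1], [2, 3, 2, 1, 2, 3], [3, 2, 1, 2, 1, 3],
   [1, 2, 1, 2, 1, 3, 2], [1, 2, 1, 2, 3, 2, 1], [1, 2, 1, 3, 2, 1, 2], [1, 2, 3, 2, 1, 2, 1], [1, 2, 3, 2, 1, 2, 3], [1, 3, 2, 1, 2, 1, 3],
   [2, 1, 2, 1, 3, 2, 1], [2, 1, 2, 3, 2, 1, 2], [2, 1, 3, 2, 1, 2, 1], [2, 1, 3, 2, 1, 2, 3], [2, 3, 2, 1, 2, 1, 3], [3, 2, 1, 2, 1, 3, 2],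
   [0], [0, 1], [0, 2], [0, 3], [0, 1, 2], [0, 1, 3],
   [0, 2, 1], [0, 2, 3], [0, 3, 2], [0, 1, 2, 1], [0, 1, 2, 3], [0, 1, 3, 2],
   [0, 2, 1, 2], [0, 2, 1, 3], [0, 2, 3, 2], [0, 3, 2, 1], [0, 1, 2, 1, 2], [0, 1, 2, 1, 3],
   [0, 1, 2, 3, 2], [0, 1, 3, 2, 1], [0, 2, 1, 2, 1], [0, 2, 1, 2, 3], [0, 2, 1, 3, 2], [0, 2, 3, 2, 1],
   [0, 3, 2, 1, 2], [0, 1, 2, 1, 2, 1], [0, 1, 2, 1, 2, 3], [0, 1, 2, 1, 3, 2], [0, 1, 2, 3, 2, 1], [0, 1, 3, 2, 1, 2],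
   [0, 2, 1, 2, 1, 3], [0, 2, 1, 2, 3, 2], [0, 2, 1, 3, 2, 1], [0, 2, 3, 2, 1, 2], [0, 3, 2, 1, 2, 1], [0, 3, 2, 1, 2, 3],
   [0, 1, 2, 1, 2, 1, 3], [0, 1, 2, 1, 2, 3, 2], [0, 1, 2, 1, 3, 2, 1], [0, 1, 2, 3, 2, 1, 2], [0, 1, 3, 2, 1, 2, 1], [0, 1, 3, 2, 1, 2, 3],
   [0, 2, 1, 2, 1, 3, 2], [0, 2, 1, 2, 3, 2, 1], [0, 2, 1, 3, 2, 1, 2], [0, 2, 3, 2, 1, 2, 1], [0, 2, 3, 2, 1, 2, 3], [0, 3, 2, 1, 2, 1, 3],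
   [0, 1, 2, 1, 2, 1, 3, 2], [0, 1, 2, 1, 2, 3, 2, 1], [0, 1, 2, 1, 3, 2, 1, 2], [0, 1, 2, 3, 2, 1, 2, 1], [0, 1, 2, 3, 2, 1, 2, 3], [0, 1, 3, 2, 1, 2, 1, 3],
   [0, 2, 1, 2, 1, 3, 2, 1], [0, 2, 1, 2, 3, 2, 1, 2], [0, 2, 1, 3, 2, 1, 2, 1], [0, 2, 1, 3, 2, 1, 2, 3], [0, 2, 3, 2, 1, 2, 1, 3], [0, 3, 2, 1, 2, 1, 3, 2]]

theorem allWords_cover : ∀ m : M, m ∈ allWords.map wM := by decide +kernel

theorem model_words (m : M) : ∃ w, (w ∈ allWords) ∧ wM w = m := List.mem_map.1 (allWords_cover m)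

attribute [irreducible] alt z α1 α2 α3 cM

end Cfsg.Agent.JankoRecog
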