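import Cfsg.Agent.Lib.JankoRecog.Structure
import Cfsg.Agent.Lib.JankoRecog.Index
import Cfsg.Agent.Lib.JankoRecog.JankoOne
import Mathlib.GroupTheory.Perm.Basic
import Mathlib.GroupTheory.Index
import Mathlib.GroupTheory.GroupAction.Quotient

/-!
# Groups with a good amalgam are `J₁`
-/

set_option autoImplicit false
set_option linter.style.haveILetI false

namespace Cfsg.Agent.JankoRecog

open Subgroup Cfsg.Agent.Presented

namespace Amalgam

variable {G : Type*} [Group G] (D : Amalgam G)

/-- The surviving commutator relation holds. -/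
def Good : Prop := D.wv (commRel [1, 2, 1, 3, 2] [3, 2, 1]) = 1

theorem restrict_wv (H : Subgroup G) (hr : D.φ.range ≤ H) (hg : D.g ∈ H) (w : List ℕ) :
    (((D.restrict H hr hg).wv w : H) : G) = D.wv w := by
  induction w with
  | nil => rfl
  | cons l w ih => rw [wv_cons, wv_cons, Subgroup.coe_mul, ih, restrict_gens]

theorem good_restrict (h : D.Good) (H : Subgroup G) (hr : D.φ.range ≤ H) (hg : D.g ∈ H) :
    (D.restrict H hr hg).Good :=
  Subtype.ext ((D.restrict_wv H hr hg _).trans h)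

/-- The amalgam of the generated subgroup. -/
def onGen : Amalgam D.gen := D.restrict D.gen D.range_le_gen D.g_mem_gen

theorem onGen_gen : D.onGen.gen = ⊤ := by
  rw [eq_top_iff]
  rintro ⟨x, hx⟩ -
  have hle : D.gen ≤ D.onGen.gen.map D.gen.subtype := by
    refine (closure_le _).2 ?_
    rintro _ ⟨l, hl, rfl⟩
    exact ⟨_, D.onGen.gens_mem_gen hl, D.restrict_gens _ _ _ l⟩
  obtain ⟨⟨y, hy'⟩, hy, e⟩ := hle hx
  obtain rfl : y = x := e
  exact hy

end Amalgam

/-- The product of two good amalgams is a proper subdirect product, hence the graph of an isomorphism. -/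
theorem iso_of_good {G J : Type*} [Group G] [Group J] [Finite G] [Finite J] (D : Amalgam G) (E : Amalgam J)
    (hD : D.Good) (hE : E.Good) (h2D : (Nat.card G).factorization 2 = 3) (h2E : (Nat.card J).factorization 2 = 3)
    (gD : D.gen = ⊤) (gE : E.gen = ⊤) : Nonempty (G ≃* J) ∧ Nat.card G ≤ 175560 := by
  haveI := D.isSimpleGroup h2D gD
  haveI := E.isSimpleGroup h2E gE
  set s : ℕ → G × J := fun l => (D.gens l, E.gens l) with hs
  have hval : ∀ w, wval s w = (wval D.gens w, wval E.gens w) := by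
    intro w
    induction w with
    | nil => rfl
    | cons g w ih => show wval s w * s g = _; rw [ih]; rfl
  set P := closure (s '' {l | l < 5}) with hP
  obtain ⟨hfin, hle⟩ : OrderLE P (1463 * 120) := by
    refine orderLE_closure (fun g => Prod.ext (D.gens_sq g) (E.gens_sq g)) (fun w hw => ?_)
      (D.φ.prod E.φ).range (fun l hl => ⟨mgen l, ?_⟩) ⟨inferInstance, ?_⟩
    · rw [hval, D.rels_one hD w hw, E.rels_one hE w hw]; rfl
    · exact Prod.ext (D.gens_model l hl).symm (E.gens_model l hl).symm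
    · rw [← Nat.card_congr (MonoidHom.ofInjective (f := D.φ.prod E.φ)
        (fun a b h => D.inj (congrArg Prod.fst h))).toEquiv, Nat.card_eq_fintype_card, card_M]
  set p1 : P →* G := (MonoidHom.fst G J).comp P.subtype with hp1
  set p2 : P →* J := (MonoidHom.snd G J).comp P.subtype with hp2
  have hf1 : Function.Surjective p1 := by
    rw [← MonoidHom.range_eq_top, eq_top_iff, ← gD, Amalgam.gen, closure_le]
    rintro _ ⟨l, hl, rfl⟩
    exact ⟨⟨s l, subset_closure ⟨l, hl, rfl⟩⟩, rfl⟩
  have hf2 : Function.Surjective p2 := by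
    rw [← MonoidHom.range_eq_top, eq_top_iff, ← gE, Amalgam.gen, closure_le]
    rintro _ ⟨l, hl, rfl⟩
    exact ⟨⟨s l, subset_closure ⟨l, hl, rfl⟩⟩, rfl⟩
  have big : ¬ P = ⊤ := by
    intro h
    have h1 : Nat.card P = Nat.card G * Nat.card J := by rw [h, card_top, Nat.card_prod]
    have hG : 840 ≤ Nat.card G := Nat.le_of_dvd Nat.card_pos D.dvd_card
    have hJ : 840 ≤ Nat.card J := Nat.le_of_dvd Nat.card_pos E.dvd_card
    have := Nat.mul_le_mul hG hJ
    omega
  set K1 : Subgroup G := P.comap (MonoidHom.inl G J) with hK1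
  set K2 : Subgroup J := P.comap (MonoidHom.inr G J) with hK2
  haveI n1 : K1.Normal := ⟨fun a ha g => by
    obtain ⟨⟨⟨g', j⟩, hp⟩, rfl⟩ := hf1 g
    have := mul_mem (mul_mem hp (ha : (a, (1 : J)) ∈ P)) (inv_mem hp)
    show (g' * a * g'⁻¹, (1 : J)) ∈ P
    simpa [Prod.inv_mk] using this⟩
  haveI n2 : K2.Normal := ⟨fun a ha g => by
    obtain ⟨⟨⟨g', j⟩, hp⟩, rfl⟩ := hf2 g
    have := mul_mem (mul_mem hp (ha : ((1 : G), a) ∈ P)) (inv_mem hp)
    show ((1 : G), j * a * j⁻¹) ∈ P
    simpa [Prod.inv_mk] using this⟩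
  have b1 : K1 = ⊥ := by
    refine (IsSimpleGroup.eq_bot_or_eq_top_of_normal K1 n1).resolve_right fun h => big ?_
    rw [eq_top_iff]
    rintro ⟨a, b⟩ -
    obtain ⟨⟨⟨a', b'⟩, hp⟩, e⟩ := hf2 b
    have e' : b' = b := e
    have ha : (a * a'⁻¹, (1 : J)) ∈ P := (show a * a'⁻¹ ∈ K1 by rw [h]; trivial)
    have := mul_mem ha hp
    simpa [e'] using this
  have b2 : K2 = ⊥ := by
    refine (IsSimpleGroup.eq_bot_or_eq_top_of_normal K2 n2).resolve_right fun h => big ?_
    rw [eq_top_iff]
    rintro ⟨a, b⟩ -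
    obtain ⟨⟨⟨a', b'⟩, hp⟩, e⟩ := hf1 a
    have e' : a' = a := e
    have hb : ((1 : G), b * b'⁻¹) ∈ P := (show b * b'⁻¹ ∈ K2 by rw [h]; trivial)
    have := mul_mem hb hp
    simpa [e'] using this
  have i1 : Function.Injective p1 := by
    rw [injective_iff_map_eq_one]
    rintro ⟨⟨a, b⟩, hp⟩ e
    obtain rfl : a = 1 := e
    have : b ∈ K2 := hp
    rw [b2, mem_bot] at this
    subst this
    rfl
  have i2 : Function.Injective p2 := by
    rw [injective_iff_map_eq_one]
    rintro ⟨⟨a, b⟩, hp⟩ e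
    obtain rfl : b = 1 := e
    have : a ∈ K1 := hp
    rw [b1, mem_bot] at this
    subst this
    rfl
  exact ⟨⟨(MulEquiv.ofBijective p1 ⟨i1, hf1⟩).symm.trans (MulEquiv.ofBijective p2 ⟨i2, hf2⟩)⟩,
    (Nat.card_congr (Equiv.ofBijective p1 ⟨i1, hf1⟩)).symm.trans_le hle⟩

theorem fact_two_J1 : (Nat.card Cfsg.Spor.J1).factorization 2 = 3 := by
  rw [Cfsg.Agent.Janko.J1.card_J1, show 175560 = 2 ^ 3 * 21945 by norm_num,
    Nat.factorization_mul (by norm_num) (by norm_num), Finsupp.add_apply,
    Nat.Prime.factorization_pow Nat.prime_two, Finsupp.single_eq_same,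
    Nat.factorization_eq_zero_of_not_dvd (by norm_num : ¬2 ∣ 21945)]

/-- A simple group of order 840 has no subgroup of order 168 containing its Sylow normaliser. -/
theorem card_ne_840 {H : Type*} [Group H] [Finite H] [IsSimpleGroup H] (E : Amalgam H) :
    Nat.card H ≠ 840 := by
  intro hc
  set S := subS.map E.φ with hS
  set N := normalizer (S : Set H) with hN
  have hSN : S ≤ N := le_normalizer
  have hcN : E.φ cM ∈ N := by
    rw [hN, mem_normalizer_iff]
    intro x
    constructor
    · rintro ⟨m, hm, rfl⟩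
      exact ⟨cM * m * cM⁻¹, (cM_normalises m hm).1, by rw [map_mul, map_mul, map_inv]⟩
    · rintro ⟨m, hm, hmx⟩
      refine ⟨cM⁻¹ * m * cM, (cM_normalises m hm).2, ?_⟩
      rw [map_mul, map_mul, hmx, map_inv]; group
  have hgN : E.g ∈ N := by
    rw [hN, mem_normalizer_iff_conj_image_eq]
    refine Set.eq_of_subset_of_ncard_le ?_ ?_ (Set.toFinite _)
    · rintro _ ⟨_, ⟨m, hm, rfl⟩, rfl⟩
      simp only [MulAut.conj_apply]
      rcases eq_or_ne m 1 with rfl | hm1
      · exact ⟨1, one_mem _, by simp⟩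
      · obtain ⟨i, hi⟩ := E.inS_conj m hm hm1
        rw [← hi]
        have hstep : ∀ i : ℕ, E.g ^ i * E.φ z * (E.g ^ i)⁻¹ ∈ S := by
          intro i
          induction i with
          | zero => exact ⟨z, subS_gens.1, by group⟩
          | succ i ih =>
            obtain ⟨n, hn, he⟩ := ih
            rw [show E.g ^ (i + 1) * E.φ z * (E.g ^ (i + 1))⁻¹ =
              E.g * (E.g ^ i * E.φ z * (E.g ^ i)⁻¹) * E.g⁻¹ by rw [pow_succ']; group, ← he]
            have hn' := subS_list n hn
            have gm : ∀ a b : M, E.g * E.φ a * E.g⁻¹ ∈ S → E.g * E.φ b * E.g⁻¹ ∈ S →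
                E.g * E.φ (a * b) * E.g⁻¹ ∈ S := by
              intro a b ha hb
              rw [map_mul, show E.g * (E.φ a * E.φ b) * E.g⁻¹ =
                E.g * E.φ a * E.g⁻¹ * (E.g * E.φ b * E.g⁻¹) by group]
              exact mul_mem ha hb
            have gz : E.g * E.φ z * E.g⁻¹ ∈ S := ⟨α1, subS_gens.2.1, E.g_z.symm⟩
            have g1 : E.g * E.φ α1 * E.g⁻¹ ∈ S := ⟨_, subS_gens.2.2.2.2, E.g_α1.symm⟩
            have g3 : E.g * E.φ α3 * E.g⁻¹ ∈ S := ⟨_, subS_gens.2.2.2.1, E.g_α3.symm⟩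
            have g2 : E.g * E.φ (cM * α1 * cM⁻¹) * E.g⁻¹ ∈ S := by
              rw [cycle_identities.1]; exact gm _ _ g1 g3
            simp only [List.mem_cons, List.not_mem_nil, or_false] at hn'
            rcases hn' with rfl | rfl | rfl | rfl | rfl | rfl | rfl | rfl
            exacts [by rw [map_one, mul_one, mul_inv_cancel]; exact one_mem _, gz, g1, g2, gm _ _ gz g1,
              gm _ _ g1 g2, gm _ _ (gm _ _ gz g2) g1, gm _ _ gz g2]
        rw [show E.g * (E.g ^ i * E.φ z * (E.g ^ i)⁻¹) * E.g⁻¹ =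
          E.g ^ (i + 1) * E.φ z * (E.g ^ (i + 1))⁻¹ by rw [pow_succ']; group]
        exact hstep (i + 1)
    · rw [Set.ncard_image_of_injective _ (MulAut.conj E.g).injective]
  have h8 : 8 ∣ Nat.card N := by
    have := card_dvd_of_le hSN
    rwa [hS, card_map_of_injective E.inj, card_subS] at this
  have h3 : 3 ∣ Nat.card N := by
    have h := orderOf_dvd_natCard (⟨_, hcN⟩ : N)
    rwa [orderOf_mk, orderOf_injective E.φ E.inj, orderOf_eq_prime cM_facts.1 cM_facts.2.1] at h
  have h7 : 7 ∣ Nat.card N := by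
    have h := orderOf_dvd_natCard (⟨_, hgN⟩ : N)
    rwa [orderOf_mk, E.orderOf_g] at h
  have h168 : 168 ∣ Nat.card N :=
    Nat.Coprime.mul_dvd_of_dvd_of_dvd (by norm_num : Nat.Coprime 24 7)
      (Nat.Coprime.mul_dvd_of_dvd_of_dvd (by norm_num : Nat.Coprime 8 3) h8 h3) h7
  have hidx : N.index ∣ 5 := by
    obtain ⟨r, hr⟩ := h168
    have := N.card_mul_index
    rw [hr, hc, mul_assoc] at this
    exact ⟨r, by linarith⟩
  rcases IsSimpleGroup.eq_bot_or_eq_top_of_normal N.normalCore inferInstance with hb | ht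
  · have hinj : Function.Injective (MulAction.toPermHom H (H ⧸ N)) := by
      rw [← MonoidHom.ker_eq_bot_iff, ← Subgroup.normalCore_eq_ker, hb]
    have hd := Subgroup.card_dvd_of_injective _ hinj
    rw [Nat.card_perm, ← Subgroup.index, hc] at hd
    have h := hd.trans (Nat.factorial_dvd_factorial (Nat.le_of_dvd (by norm_num) hidx))
    norm_num [Nat.factorial] at h
  · have hNt : N = ⊤ := eq_top_iff.2 (ht ▸ Subgroup.normalCore_le N)
    have hnS : S.Normal := normalizer_eq_top_iff.1 hNt
    have hcard : Nat.card S = 8 := by rw [hS, card_map_of_injective E.inj, card_subS]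
    rcases IsSimpleGroup.eq_bot_or_eq_top_of_normal S hnS with hb | hb
    · rw [hb, card_bot] at hcard; omega
    · rw [hb, card_top, hc] at hcard; omega

/-- Inside `J₁` a good amalgam generates. -/
theorem gen_eq_top_J1 (E : Amalgam Cfsg.Spor.J1) : E.gen = ⊤ := by
  have h2 := E.factorization_restrict fact_two_J1 E.gen E.range_le_gen E.g_mem_gen
  haveI := E.onGen.isSimpleGroup h2 E.onGen_gen
  obtain ⟨j, hj⟩ := E.onGen.dvd_card
  have hd := E.gen.card_subgroup_dvd_card
  rw [Cfsg.Agent.Janko.J1.card_J1, hj, show 175560 = 840 * 209 by norm_num] at hd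
  have hj' : j ∈ Nat.divisors 209 := Nat.mem_divisors.2 ⟨Nat.dvd_of_mul_dvd_mul_left (by norm_num) hd, by norm_num⟩
  have h840 := card_ne_840 E.onGen
  obtain ⟨n11, n19⟩ := card_ne E.gen
  have hlist : ∀ j ∈ Nat.divisors 209, j = 1 ∨ j = 11 ∨ j = 19 ∨ j = 209 := by decide +kernel
  rcases hlist j hj' with rfl | rfl | rfl | rfl
  · omega
  · omega
  · omega
  · exact eq_top_of_card_eq _ (by rw [hj, Cfsg.Agent.Janko.J1.card_J1])

/-- Groups with a good amalgam whose generated subgroup is strongly embedded are generated. -/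
theorem gen_eq_top {G : Type*} [Group G] [Finite G] [IsSimpleGroup G] (D : Amalgam G)
    (h2 : (Nat.card G).factorization 2 = 3) (hiso : Nonempty (D.gen ≃* Cfsg.Spor.J1)) : D.gen = ⊤ := by
  classical
  obtain ⟨e⟩ := hiso
  haveI : Fintype G := Fintype.ofFinite G
  set H := D.gen with hH
  have h2H := D.factorization_restrict h2 H D.range_le_gen D.g_mem_gen
  have hCt : ∀ g : G, g * D.φ z = D.φ z * g → g ∈ H := fun g hg =>
    D.range_le_gen (by rw [D.range_eq, mem_centralizer_singleton_iff]; exact hg)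
  obtain ⟨hz2, -, -, -, hz1, -⟩ := model_involutions
  have hconjH : ∀ i ∈ H, i * i = 1 → i ≠ 1 → ∃ h ∈ H, h * i * h⁻¹ = D.φ z := by
    intro i hi hi2 hi1
    obtain ⟨h, hh⟩ := D.onGen.isConj_of_involution h2H (u := ⟨i, hi⟩) (Subtype.ext hi2)
      fun q => hi1 (congrArg Subtype.val q)
    exact ⟨h, h.2, congrArg Subtype.val hh⟩
  set I := Finset.univ.filter fun u : G => u * u = 1 ∧ u ≠ 1 with hI
  -- each coset other than `H` holds at most 361 involutions
  have hcoset : ∀ q : G ⧸ H, q ≠ ((1 : G) : G ⧸ H) → (I.filter fun w : G => (w : G ⧸ H) = q).card ≤ 361 := by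
    intro q hq
    rcases (I.filter fun w : G => (w : G ⧸ H) = q).eq_empty_or_nonempty with he | ⟨u, hu⟩
    · rw [he]; simp
    obtain ⟨huI, rfl⟩ := Finset.mem_filter.1 hu
    obtain ⟨hu2, hu1⟩ := (Finset.mem_filter.1 huI).2
    have huH : u ∉ H := fun h => hq (QuotientGroup.eq.2 (by simpa using h))
    have hui : u⁻¹ = u := inv_eq_of_mul_eq_one_right hu2
    set K : Subgroup G := H ⊓ H.comap (MulAut.conj u).toMonoidHom with hK
    have hodd : Odd (Nat.card K) := by
      rw [← Nat.not_even_iff_odd, even_iff_two_dvd]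
      intro h
      haveI : Fact (Nat.Prime 2) := ⟨Nat.prime_two⟩
      obtain ⟨x, hxo⟩ := exists_prime_orderOf_dvd_card' (G := K) 2 h
      rw [← orderOf_coe] at hxo
      obtain ⟨hiH, hiu⟩ := mem_inf.1 x.2
      obtain ⟨i, hi, hio⟩ : ∃ i, i = (x : G) ∧ orderOf i = 2 := ⟨_, rfl, hxo⟩
      rw [← hi] at hiH hiu
      have hi2 : i * i = 1 := by rw [← pow_two, ← hio, pow_orderOf_eq_one]
      have hi1 : i ≠ 1 := fun h => by rw [h, orderOf_one] at hio; omega
      have hiu' : u * i * u ∈ H := by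
        have : (MulAut.conj u) i ∈ H := hiu
        rwa [MulAut.conj_apply, hui] at this
      obtain ⟨a, ha, hae⟩ := hconjH i hiH hi2 hi1
      obtain ⟨b, hb, hbe⟩ := hconjH _ hiu' (by
        rw [show u * i * u * (u * i * u) = u * i * (u * u) * i * u by group, hu2, mul_one,
          mul_assoc u i i, hi2, mul_one, hu2]) (fun h => hi1 (by
        calc i = (u * u) * i * (u * u) := by rw [hu2, one_mul, mul_one]
          _ = u * (u * i * u) * u := by group
          _ = 1 := by rw [h, mul_one, hu2]))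
      have hmem := hCt (b * u * a⁻¹) (by
        calc b * u * a⁻¹ * D.φ z = b * u * a⁻¹ * (a * i * a⁻¹) := by rw [hae]
          _ = b * (u * i * u) * b⁻¹ * (b * u⁻¹ * a⁻¹) := by group
          _ = D.φ z * (b * u * a⁻¹) := by rw [hbe, hui])
      refine huH ?_
      have := mul_mem (mul_mem (inv_mem hb) hmem) ha
      rwa [show b⁻¹ * (b * u * a⁻¹) * a = u by group] at this
    have hsmall : Nat.card K ≤ 361 := by
      set f : K →* Cfsg.Spor.J1 := e.toMonoidHom.comp (Subgroup.inclusion inf_le_left) with hf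
      have hfi : Function.Injective f := e.injective.comp (Subgroup.inclusion_injective _)
      have hc : Nat.card f.range = Nat.card K := (Nat.card_congr (MonoidHom.ofInjective hfi).toEquiv).symm
      rw [← hc]
      exact card_le_of_odd _ (hc.symm ▸ hodd)
    refine le_trans ?_ hsmall
    rw [Nat.card_eq_fintype_card, ← Fintype.card_coe]
    refine Fintype.card_le_of_injective (fun w => (⟨u⁻¹ * w.1, ?_⟩ : K)) fun w w' h =>
      Subtype.ext (mul_left_cancel (congrArg Subtype.val h))
    obtain ⟨hwI, hwq⟩ := Finset.mem_filter.1 w.2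
    obtain ⟨hw2, -⟩ := (Finset.mem_filter.1 hwI).2
    have hx : u⁻¹ * w.1 ∈ H := QuotientGroup.eq.1 hwq.symm
    refine ⟨hx, ?_⟩
    show MulAut.conj u (u⁻¹ * w.1) ∈ H
    rw [MulAut.conj_apply, show u * (u⁻¹ * w.1) * u⁻¹ = (u⁻¹ * w.1)⁻¹ by
      rw [mul_inv_rev, inv_inv, inv_eq_of_mul_eq_one_right hw2, hui, ← mul_assoc, hu2, one_mul]]
    · exact inv_mem hx
  -- the involutions of `H` and of `G`
  have count : ∀ (K : Type _) [Group K] [Fintype K] (E : Amalgam K), (Nat.card K).factorization 2 = 3 →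
      120 * (Finset.univ.filter fun u : K => u * u = 1 ∧ u ≠ 1).card = Nat.card K := by
    intro K _ _ E hK
    have hst : Nat.card (MulAction.stabilizer (ConjAct K) (E.φ z)) = 120 := by
      rw [← E.card_range, E.range_eq]
      exact Nat.card_congr (Equiv.subtypeEquiv ConjAct.ofConjAct.toEquiv fun g => by
        rw [MulAction.mem_stabilizer_iff, ConjAct.smul_def, mul_inv_eq_iff_eq_mul, mem_centralizer_singleton_iff]
        exact Iff.rfl)
    have horb : MulAction.orbit (ConjAct K) (E.φ z) =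
        ↑(Finset.univ.filter fun u : K => u * u = 1 ∧ u ≠ 1) := by
      ext u
      simp only [MulAction.mem_orbit_iff, ConjAct.smul_def, Finset.coe_filter, Finset.mem_univ, true_and,
        Set.mem_ofPred_eq]
      constructor
      · rintro ⟨g, rfl⟩
        refine ⟨?_, fun h => hz1 ?_⟩
        · rw [show ConjAct.ofConjAct g * E.φ z * (ConjAct.ofConjAct g)⁻¹ * (ConjAct.ofConjAct g * E.φ z *
            (ConjAct.ofConjAct g)⁻¹) = ConjAct.ofConjAct g * (E.φ z * E.φ z) * (ConjAct.ofConjAct g)⁻¹ by group,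
            ← map_mul, hz2, map_one, mul_one, mul_inv_cancel]
        · exact E.inj (by rw [map_one]; exact conj_eq_one_iff.1 h)
      · rintro ⟨h1, h2'⟩
        obtain ⟨h, hh⟩ := E.isConj_of_involution hK h1 h2'
        exact ⟨ConjAct.toConjAct h⁻¹, by rw [ConjAct.ofConjAct_toConjAct, ← hh]; group⟩
    have := Subgroup.index_mul_card (MulAction.stabilizer (ConjAct K) (E.φ z))
    rw [Subgroup.index, ← Nat.card_congr (MulAction.orbitEquivQuotientStabilizer _ _), hst, horb,
      Nat.card_coe_set_eq, Set.ncard_coe_finset, show Nat.card (ConjAct K) = Nat.card K from rfl] at this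
    omega
  have cG : 120 * I.card = Nat.card G := by rw [hI]; convert count G D h2
  have cH := count H D.onGen h2H
  have hcardH : Nat.card H = 175560 := by rw [Nat.card_congr e.toEquiv, Cfsg.Agent.Janko.J1.card_J1]
  have hIH : (I.filter fun w : G => (w : G ⧸ H) = ((1 : G) : G ⧸ H)).card = 1463 := by
    have : (I.filter fun w : G => (w : G ⧸ H) = ((1 : G) : G ⧸ H)) =
        (Finset.univ.filter fun u : H => u * u = 1 ∧ u ≠ 1).map (Function.Embedding.subtype _) := by
      ext w
      simp only [hI, Finset.mem_filter, Finset.mem_univ, true_and, Finset.mem_map,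
        Function.Embedding.coe_subtype]
      constructor
      · rintro ⟨⟨h1, h2'⟩, h3⟩
        have hw : w ∈ H := by simpa using QuotientGroup.eq.1 h3
        exact ⟨⟨w, hw⟩, ⟨Subtype.ext h1, fun h => h2' (congrArg Subtype.val h)⟩, rfl⟩
      · rintro ⟨v, ⟨h1, h2'⟩, rfl⟩
        exact ⟨⟨congrArg Subtype.val h1, fun h => h2' (Subtype.ext h)⟩, QuotientGroup.eq.2 (by simp)⟩
    rw [this, Finset.card_map]
    have cH' : 120 * (Finset.univ.filter fun u : H => u * u = 1 ∧ u ≠ 1).card = Nat.card H := by convert cH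
    omega
  have hsum : I.card ≤ 1463 + 361 * (H.index - 1) := by
    haveI : Fintype (G ⧸ H) := Fintype.ofFinite _
    rw [Finset.card_eq_sum_card_fiberwise (f := fun w : G => (w : G ⧸ H)) (t := Finset.univ)
      (fun w _ => Finset.mem_coe.2 (Finset.mem_univ _)), ← Finset.add_sum_erase _ _ (Finset.mem_univ ((1 : G) : G ⧸ H)), hIH]
    refine add_le_add le_rfl ((Finset.sum_le_sum fun q hq => hcoset q (Finset.ne_of_mem_erase hq)).trans ?_)
    rw [Finset.sum_const, Finset.card_erase_of_mem (Finset.mem_univ _), Finset.card_univ, smul_eq_mul, mul_comm]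
    refine Nat.mul_le_mul_left _ (le_of_eq ?_)
    rw [Subgroup.index, Nat.card_eq_fintype_card]
  have hmul := H.card_mul_index
  rw [hcardH] at hmul
  rw [← Subgroup.index_eq_one]
  have hpos : 0 < H.index := Nat.pos_of_ne_zero Subgroup.index_ne_zero_of_finite
  omega

/-- Good amalgams in simple groups give `J₁`. -/
theorem isoJ1 {G : Type*} [Group G] [Finite G] [IsSimpleGroup G] (D : Amalgam G) (hD : D.Good)
    (h2 : (Nat.card G).factorization 2 = 3) (E : Amalgam Cfsg.Spor.J1) (hE : E.Good) : Cfsg.Spor.IsoJ1 G := by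
  have hiso := (iso_of_good D.onGen E (D.good_restrict hD _ _ _) hE
    (D.factorization_restrict h2 _ D.range_le_gen D.g_mem_gen) fact_two_J1 D.onGen_gen (gen_eq_top_J1 E)).1
  have htop := gen_eq_top D h2 hiso
  obtain ⟨e⟩ := hiso
  exact ⟨((MulEquiv.subgroupCongr htop).trans Subgroup.topEquiv).symm.trans e⟩

end Cfsg.Agent.JankoRecog
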