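import Cfsg.Agent.Lib.JankoRecog.Structure
import Cfsg.Agent.Lib.JankoRecog.Collapse
import Cfsg.Agent.Lib.JankoRecog.Unique
import Mathlib.GroupTheory.Transfer

/-!
# A large centraliser of an element of order three or five gives the commutator relation
-/

set_option autoImplicit false
set_option linter.style.haveILetI false

namespace Cfsg.Agent.JankoRecog

open Subgroup
open scoped Pointwise

theorem classify_left : ∀ m : M, (α1 * m * α1 = m⁻¹ ∧ (m * m * m = 1 ∨ m * m * m * m * m = 1) ∧ m ≠ 1) →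
    ∃ A ∈ ([[1, 2, 1, 3, 2], [1, 2]] : List (List ℕ)), ∃ i : Fin 5,
      wM A = m ^ (i : ℕ) ∨ wM A = α3 * m ^ (i : ℕ) * α3 := by
  decide +kernel

theorem classify_right : ∀ m : M, ((z * (cM * α1 * cM⁻¹)) * m * (z * (cM * α1 * cM⁻¹)) = m⁻¹ ∧
    (m * m * m = 1 ∨ m * m * m * m * m = 1) ∧ m ≠ 1) →
    ∃ f ∈ ([[2, 1, 2, 1, 3], [1, 2, 1, 2, 3], [3, 2, 1], [2, 1, 3]] : List (List ℕ)), ∃ i : Fin 5,
      wM f = m ^ (i : ℕ) := by
  decide +kernel

theorem pair_identities : α3 * α3 = 1 ∧ α1 * α3 = α3 * α1 ∧ cM * (z * α1) * cM⁻¹ = z * (cM * α1 * cM⁻¹) ∧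
    cM * (α1 * (cM * α1 * cM⁻¹)) * cM⁻¹ = α1 ∧ z * (z * α1) = α1 ∧ z * α1 * (z * α1) = 1 ∧ z * α1 * α1 = z ∧ α1 * (z * α1) = z := by
  decide +kernel

theorem fixed_three : ∀ m : M, (m * wM [1, 2, 1, 3, 2] = wM [1, 2, 1, 3, 2] * m ∧ m * α1 = α1 * m) →
    m = 1 ∨ m = z := by decide +kernel

theorem fixed_five : ∀ m : M, (m * wM [1, 2] = wM [1, 2] * m ∧ m * α1 = α1 * m) → m = 1 ∨ m = z := by
  decide +kernel

theorem rep_facts : (wM [1, 2, 1, 3, 2]) ^ 3 = 1 ∧ wM [1, 2, 1, 3, 2] ≠ 1 ∧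
    α1 * wM [1, 2, 1, 3, 2] * α1 = (wM [1, 2, 1, 3, 2])⁻¹ ∧
    (Finset.univ.filter fun m : M => m * wM [1, 2, 1, 3, 2] = wM [1, 2, 1, 3, 2] * m).card = 6 ∧
    (wM [1, 2]) ^ 5 = 1 ∧ wM [1, 2] ≠ 1 ∧ α1 * wM [1, 2] * α1 = (wM [1, 2])⁻¹ ∧
    (Finset.univ.filter fun m : M => m * wM [1, 2] = wM [1, 2] * m).card = 10 := by decide +kernel

variable {G : Type*} [Group G]

namespace Amalgam

variable (D : Amalgam G)

theorem odd_cases {m : M} (h : Odd (orderOf (D.φ m))) : m * m * m = 1 ∨ m * m * m * m * m = 1 := by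
  rw [orderOf_injective D.φ D.inj] at h
  refine odd_orders m (orderOf_dvd_iff_pow_eq_one.1 ?_)
  have hd : orderOf m ∣ 2 ^ 3 * 15 := by
    have := orderOf_dvd_card (x := m)
    rwa [card_M, show 120 = 2 ^ 3 * 15 from rfl] at this
  exact (Nat.Coprime.pow_right 3 ((Nat.coprime_two_right).2 h)).dvd_of_dvd_mul_left hd

/-- A commuting pair in the two centralisers gives the relation. -/
theorem good_of_pair {x y : G} (hxz : x * D.φ z = D.φ z * x) (hxα : D.φ α1 * x * D.φ α1 = x⁻¹)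
    (hx : Odd (orderOf x)) (hx1 : x ≠ 1) (hyα : y * D.φ α1 = D.φ α1 * y) (hyz : D.φ z * y * D.φ z = y⁻¹)
    (hy : Odd (orderOf y)) (hy1 : y ≠ 1) (hc : Commute x y) : D.Good := by
  obtain ⟨a, rfl⟩ : x ∈ D.φ.range := by rw [D.range_eq, mem_centralizer_singleton_iff]; exact hxz
  obtain ⟨b, hb⟩ : D.g⁻¹ * y * D.g ∈ D.φ.range := by
    rw [D.range_eq, mem_centralizer_singleton_iff]
    calc D.g⁻¹ * y * D.g * D.φ z = D.g⁻¹ * (y * (D.g * D.φ z * D.g⁻¹)) * D.g := by group
      _ = D.g⁻¹ * ((D.g * D.φ z * D.g⁻¹) * y) * D.g := by rw [D.g_z, hyα]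
      _ = _ := by group
  have hyb : y = D.g * D.φ b * D.g⁻¹ := by rw [hb]; group
  have hgz : D.g⁻¹ * D.φ z * D.g = D.φ (z * (cM * α1 * cM⁻¹)) := by
    have e : D.g * D.φ (z * (cM * α1 * cM⁻¹)) * D.g⁻¹ = D.φ z := by
      rw [cycle_identities.1, map_mul, map_mul,
        show D.g * (D.φ z * (D.φ α1 * D.φ α3)) * D.g⁻¹ =
          D.g * D.φ z * D.g⁻¹ * ((D.g * D.φ α1 * D.g⁻¹) * (D.g * D.φ α3 * D.g⁻¹)) by group,
        D.g_z, D.g_α1, D.g_α3, ← map_mul, ← map_mul]
      congr 1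
      decide +kernel
    calc D.g⁻¹ * D.φ z * D.g = D.g⁻¹ * (D.g * D.φ (z * (cM * α1 * cM⁻¹)) * D.g⁻¹) * D.g := by rw [e]
      _ = _ := by group
  obtain ⟨-, -, -, -, hz1, -⟩ := model_involutions
  have hb15 : b * b * b = 1 ∨ b * b * b * b * b = 1 := D.odd_cases (by
    rw [hb, show D.g⁻¹ * y * D.g = MulAut.conj D.g⁻¹ y by rw [MulAut.conj_apply, inv_inv], MulEquiv.orderOf_eq]
    exact hy)
  have hbi : z * (cM * α1 * cM⁻¹) * b * (z * (cM * α1 * cM⁻¹)) = b⁻¹ := D.inj (by
    rw [map_mul, map_mul, ← hgz, map_inv, hb]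
    calc D.g⁻¹ * D.φ z * D.g * (D.g⁻¹ * y * D.g) * (D.g⁻¹ * D.φ z * D.g)
        = D.g⁻¹ * (D.φ z * y * D.φ z) * D.g := by group
      _ = _ := by rw [hyz]; group)
  have hb1 : b ≠ 1 := fun h => hy1 (by rw [hyb, h, map_one, mul_one, mul_inv_cancel])
  obtain ⟨f, hf, j, hfj⟩ := classify_right b ⟨hbi, hb15, hb1⟩
  have hai : α1 * a * α1 = a⁻¹ := D.inj (by rw [map_mul, map_mul, map_inv, hxα])
  obtain ⟨A, hA, i, hAi⟩ := classify_left a ⟨hai, D.odd_cases hx, fun h => hx1 (by rw [h, map_one])⟩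
  -- conjugation by `α3` fixes the two involutions
  have key : ∀ (a : M) (y : G), Commute (D.φ a) y → (∃ b, y = D.g * D.φ b * D.g⁻¹ ∧ wM f = b ^ (j : ℕ)) →
      wM A = a ^ (i : ℕ) → D.wv (commRel A f) = 1 := by
    rintro a y hc ⟨b, rfl, hb⟩ hA'
    have hfl : ∀ l ∈ f, l < 4 := by
      simp only [List.mem_cons, List.not_mem_nil, or_false] at hf
      rcases hf with rfl | rfl | rfl | rfl <;> simp
    have hAl : ∀ l ∈ A, l < 4 := by
      simp only [List.mem_cons, List.not_mem_nil, or_false] at hA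
      rcases hA with rfl | rfl <;> simp
    refine D.commRel_one A f hAl hfl ?_
    rw [hA', hb, map_pow, map_pow, ← conj_pow]
    exact hc.pow_pow _ _
  have hgood : ∀ f' ∈ ([[2, 1, 2, 1, 3], [1, 2, 1, 2, 3], [3, 2, 1], [2, 1, 3]] : List (List ℕ)),
      D.wv (commRel A f') = 1 → D.Good := by
    intro f' hf' h
    simp only [List.mem_cons, List.not_mem_nil, or_false] at hA hf'
    rcases hA with rfl | rfl <;> rcases hf' with rfl | rfl | rfl | rfl
    exacts [(D.collapse0 h).elim, (D.collapse1 h).elim, h, (D.collapse3 h).elim, (D.collapse4 h).elim,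
      (D.collapse5 h).elim, (D.collapse6 h).elim, (D.collapse7 h).elim]
  rcases hAi with hAi | hAi
  · exact hgood f hf (key a y hc ⟨b, hyb, hfj⟩ hAi)
  · -- move the first element by `α3`
    obtain ⟨h33, h13, -⟩ := pair_identities
    set s := D.φ α3 with hs
    have hs2 : s * s = 1 := by rw [hs, ← map_mul, h33, map_one]
    have hsi : s⁻¹ = s := inv_eq_of_mul_eq_one_right hs2
    have hsz : s * D.φ z = D.φ z * s := by rw [hs, ← map_mul, z_comm, map_mul]
    have hsα : s * D.φ α1 = D.φ α1 * s := by rw [hs, ← map_mul, ← h13, map_mul]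
    have hc' : Commute (D.φ (α3 * a * α3)) (s * y * s) := by
      rw [map_mul, map_mul, ← hs]
      calc s * D.φ a * s * (s * y * s) = s * (D.φ a * (s * s) * y) * s := by group
        _ = s * (y * (s * s) * D.φ a) * s := by rw [hs2, mul_one, mul_one, hc.eq]
        _ = s * y * s * (s * D.φ a * s) := by group
    obtain ⟨b', hb'⟩ : D.g⁻¹ * (s * y * s) * D.g ∈ D.φ.range := by
      rw [D.range_eq, mem_centralizer_singleton_iff]
      calc D.g⁻¹ * (s * y * s) * D.g * D.φ z = D.g⁻¹ * (s * y * (s * (D.g * D.φ z * D.g⁻¹))) * D.g := by group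
        _ = D.g⁻¹ * (s * (y * D.φ α1) * s) * D.g := by rw [D.g_z, hsα]; group
        _ = D.g⁻¹ * ((s * D.φ α1) * y * s) * D.g := by rw [hyα]; group
        _ = D.g⁻¹ * (D.φ α1 * (s * y * s)) * D.g := by rw [hsα]; group
        _ = _ := by rw [← D.g_z]; group
    have hb'y : s * y * s = D.g * D.φ b' * D.g⁻¹ := by rw [hb']; group
    have hb'15 : b' * b' * b' = 1 ∨ b' * b' * b' * b' * b' = 1 := D.odd_cases (by
      rw [hb', show D.g⁻¹ * (s * y * s) * D.g = MulAut.conj (D.g⁻¹ * s) y by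
        rw [MulAut.conj_apply, mul_inv_rev, hsi, inv_inv]; group, MulEquiv.orderOf_eq]
      exact hy)
    have hb'i : z * (cM * α1 * cM⁻¹) * b' * (z * (cM * α1 * cM⁻¹)) = b'⁻¹ := D.inj (by
      rw [map_mul, map_mul, ← hgz, map_inv, hb']
      calc D.g⁻¹ * D.φ z * D.g * (D.g⁻¹ * (s * y * s) * D.g) * (D.g⁻¹ * D.φ z * D.g)
          = D.g⁻¹ * ((D.φ z * s) * y * (s * D.φ z)) * D.g := by group
        _ = D.g⁻¹ * ((s * D.φ z) * y * (D.φ z * s)) * D.g := by rw [hsz]
        _ = D.g⁻¹ * (s * (D.φ z * y * D.φ z) * s) * D.g := by group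
        _ = _ := by rw [hyz]; simp only [mul_inv_rev, inv_inv, hsi, mul_assoc])
    have hb'1 : b' ≠ 1 := fun h => hy1 (by
      rw [h, map_one, mul_one, mul_inv_cancel] at hb'y
      calc y = s * (s * y * s) * s := by rw [← mul_assoc, ← mul_assoc, hs2, one_mul, mul_assoc, hs2, mul_one]
        _ = 1 := by rw [hb'y, mul_one, hs2])
    obtain ⟨f', hf', j', hfj'⟩ := classify_right b' ⟨hb'i, hb'15, hb'1⟩
    have hfl : ∀ l ∈ f', l < 4 := by
      simp only [List.mem_cons, List.not_mem_nil, or_false] at hf'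
      rcases hf' with rfl | rfl | rfl | rfl <;> simp
    have hAl : ∀ l ∈ A, l < 4 := by
      simp only [List.mem_cons, List.not_mem_nil, or_false] at hA
      rcases hA with rfl | rfl <;> simp
    refine hgood f' hf' (D.commRel_one A f' hAl hfl ?_)
    have hpow : α3 * a ^ (i : ℕ) * α3 = (α3 * a * α3) ^ (i : ℕ) := by
      conv_rhs => rw [show α3 * a * α3 = α3 * a * α3⁻¹ by rw [inv_eq_of_mul_eq_one_right h33], conj_pow,
        inv_eq_of_mul_eq_one_right h33]
    rw [hAi, hpow, hfj', map_pow, map_pow, ← conj_pow, ← hb'y]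
    exact hc'.pow_pow _ _

/-- A centraliser larger than in the model gives the relation. -/
theorem good_of_large [Finite G] {xm : M} {p : ℕ} (hp : p = 3 ∨ p = 5) (hxp : xm ^ p = 1) (hx1 : xm ≠ 1)
    (hxi : α1 * xm * α1 = xm⁻¹) (hcent : (Finset.univ.filter fun m : M => m * xm = xm * m).card = 2 * p)
    (hfix : ∀ m : M, (m * xm = xm * m ∧ m * α1 = α1 * m) → m = 1 ∨ m = z)
    (hbig : Nat.card (centralizer ({D.φ xm} : Set G)) ≠ 2 * p) : D.Good := by
  classical
  haveI : Fact (Nat.Prime 2) := ⟨Nat.prime_two⟩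
  obtain ⟨hz2, h12, -, -, hz1, -⟩ := model_involutions
  obtain ⟨-, -, i3, i4, i5, i6, i7, i8⟩ := pair_identities
  set C := centralizer ({D.φ xm} : Set G) with hC
  set t := D.φ z with ht
  have htC : t ∈ C := by rw [hC, mem_centralizer_singleton_iff, ht, ← map_mul, ← map_mul, z_comm]
  set t' : C := ⟨t, htC⟩
  have ht1 : t ≠ 1 := fun h => hz1 (D.inj (by rw [map_one]; exact h))
  have hto : orderOf t' = 2 := orderOf_eq_prime (Subtype.ext (show t ^ 2 = 1 by
    rw [pow_two, ht, ← map_mul, hz2, map_one])) fun h => ht1 (congrArg Subtype.val h)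
  -- elements commuting with both
  have hboth : ∀ u ∈ C, u * t = t * u → ∃ m, m * xm = xm * m ∧ D.φ m = u := by
    intro u hu hut
    have h' : u ∈ D.φ.range := by rw [D.range_eq, mem_centralizer_singleton_iff]; exact hut
    obtain ⟨m, rfl⟩ := h'
    rw [hC, mem_centralizer_singleton_iff, ← map_mul, ← map_mul] at hu
    exact ⟨m, D.inj hu, rfl⟩
  have hcount : ∀ K : Subgroup G, K ≤ C → (∀ u ∈ K, u * t = t * u) → Nat.card K ≤ 2 * p := by
    intro K hK hKt
    rw [← hcent, ← Fintype.card_coe, ← Nat.card_eq_fintype_card]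
    choose m hm hmu using fun u : K => hboth u (hK u.2) (hKt u u.2)
    refine Nat.card_le_card_of_injective (fun u => (⟨m u, by simp [hm u]⟩ :
      ↥(Finset.univ.filter fun m : M => m * xm = xm * m))) fun u v h => Subtype.ext ?_
    rw [← hmu u, ← hmu v]
    exact congrArg (fun w => D.φ w.1) h
  have hfour : ¬ 2 ^ 2 ∣ Nat.card C := by
    intro h4
    have hcard : Nat.card (zpowers t') = 2 ^ 1 := by rw [Nat.card_zpowers, hto, pow_one]
    obtain ⟨K, hK, hle⟩ := Sylow.exists_subgroup_card_pow_succ (p := 2) (n := 1) h4 hcard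
    have hab : ∀ u ∈ K, ∀ v ∈ K, u * v = v * u := by
      have hc := IsPGroup.isMulCommutative_of_card_eq_prime_sq hK
      exact fun u hu v hv => congrArg Subtype.val (hc.is_comm.comm ⟨u, hu⟩ ⟨v, hv⟩)
    set K' := K.map C.subtype
    have hK'4 : Nat.card K' = 4 := by rw [card_map_of_injective C.subtype_injective, hK]; norm_num
    have hK'x : ∀ u ∈ K', ∃ m, m * xm = xm * m ∧ D.φ m = u := by
      rintro _ ⟨u, hu, rfl⟩
      exact hboth u u.2 (congrArg Subtype.val (hab u hu t' (hle (mem_zpowers _))))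
    have hsub : K' ≤ (Subgroup.centralizer ({xm} : Set M)).map D.φ := fun u hu => by
      obtain ⟨m, hm, rfl⟩ := hK'x u hu
      exact ⟨m, mem_centralizer_singleton_iff.2 hm, rfl⟩
    have hd := card_dvd_of_le hsub
    rw [card_map_of_injective D.inj, hK'4] at hd
    have hce : Nat.card (Subgroup.centralizer ({xm} : Set M)) = 2 * p := by
      rw [← hcent, ← Fintype.card_subtype, ← Nat.card_eq_fintype_card]
      exact Nat.card_congr (Equiv.subtypeEquivRight fun m => mem_centralizer_singleton_iff)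
    rw [hce] at hd
    rcases hp with rfl | rfl <;> norm_num at hd
  obtain ⟨P⟩ : Nonempty (Sylow 2 C) := inferInstance
  obtain ⟨Q, hQ⟩ := (IsPGroup.of_card (p := 2) (n := 1) (G := zpowers t')
    (by rw [Nat.card_zpowers, hto, pow_one])).exists_le_sylow
  have hQ2 : Nat.card (Q : Subgroup C) = 2 := by
    obtain ⟨n, hn⟩ := IsPGroup.iff_card.1 Q.2
    have h1 := card_dvd_of_le hQ
    rw [Nat.card_zpowers, hto, hn] at h1
    have hn2 : ¬ 2 ≤ n := fun h2 => hfour ((pow_dvd_pow 2 h2).trans (by rw [← hn]; exact (Q : Subgroup C).card_subgroup_dvd_card))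
    have hn0 : n ≠ 0 := by rintro rfl; norm_num at h1
    rw [hn, show n = 1 by omega, pow_one]
  have hQt : (Q : Subgroup C) = zpowers t' :=
    (eq_of_le_of_card_ge hQ (by rw [hQ2, Nat.card_zpowers, hto])).symm
  have hQc : normalizer ((Q : Subgroup C) : Set C) ≤ centralizer ((Q : Subgroup C) : Set C) := by
    haveI : IsCyclic (Q : Subgroup C) := isCyclic_of_prime_card hQ2
    intro n hn
    rw [mem_centralizer_iff]
    intro w hw
    rw [SetLike.mem_coe, hQt] at hw
    have hts : n * t' * n⁻¹ = t' := by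
      have h1 := (mem_normalizer_iff.1 hn t').1 (hQt.ge (mem_zpowers _))
      rw [hQt, mem_zpowers_iff] at h1
      obtain ⟨k, hk⟩ := h1
      rw [← zpow_mod_orderOf, hto] at hk
      rcases Int.emod_two_eq k with hk2 | hk2
      · rw [Nat.cast_ofNat, hk2, zpow_zero] at hk
        exact absurd (conj_eq_one_iff.1 hk.symm) fun h => ht1 (congrArg Subtype.val h)
      · rw [Nat.cast_ofNat, hk2, zpow_one] at hk; exact hk.symm
    obtain ⟨k, rfl⟩ := mem_zpowers_iff.1 hw
    refine (Commute.zpow_left ?_ k).eq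
    show t' * n = n * t'
    calc t' * n = n * t' * n⁻¹ * n := by rw [hts]
      _ = n * t' := by group
  set X₀ := (MonoidHom.transferSylow Q hQc).ker
  have hXiff : ∀ u : C, u ∈ X₀ ↔ Odd (orderOf u) := by
    intro u
    constructor
    · intro hu
      refine (Nat.not_even_iff_odd.1 fun he => ?_)
      refine MonoidHom.not_dvd_card_ker_transferSylow Q hQc ((even_iff_two_dvd.1 he).trans ?_)
      rw [← orderOf_mk u hu]
      exact orderOf_dvd_natCard _
    · intro hu
      rw [MonoidHom.mem_ker, ← orderOf_eq_one_iff]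
      have h1 := orderOf_map_dvd (MonoidHom.transferSylow Q hQc) u
      have h2 : orderOf (MonoidHom.transferSylow Q hQc u) ∣ 2 := (_root_.orderOf_dvd_natCard _).trans (dvd_of_eq hQ2)
      exact Nat.eq_one_of_dvd_coprimes ((Nat.coprime_two_right).2 hu) h1 h2
  set X : Subgroup G := X₀.map C.subtype
  have hXmem : ∀ u : G, u ∈ X ↔ u ∈ C ∧ Odd (orderOf u) := by
    intro u
    constructor
    · rintro ⟨v, hv, rfl⟩
      exact ⟨v.2, by rw [coe_subtype, orderOf_coe]; exact (hXiff v).1 hv⟩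
    · rintro ⟨hu, ho⟩
      exact ⟨⟨u, hu⟩, (hXiff _).2 (by rwa [← orderOf_coe]), rfl⟩
  have hxX : D.φ xm ∈ X := (hXmem _).2 ⟨by rw [hC, mem_centralizer_singleton_iff], by
    rw [orderOf_injective D.φ D.inj]
    rcases hp with rfl | rfl
    · haveI : Fact (Nat.Prime 3) := ⟨Nat.prime_three⟩
      rw [orderOf_eq_prime hxp hx1]; decide
    · haveI : Fact (Nat.Prime 5) := ⟨by norm_num⟩
      rw [orderOf_eq_prime hxp hx1]; decide⟩
  -- invariance under the involutions inverting or fixing `x`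
  have hnorm : ∀ m : M, m * m = 1 → (m * xm * m = xm ∨ m * xm * m = xm⁻¹) →
      ∀ u ∈ X, D.φ m * u * D.φ m ∈ X := by
    intro m hm hmx u hu
    obtain ⟨huC, huo⟩ := (hXmem u).1 hu
    have hmi : (D.φ m)⁻¹ = D.φ m := inv_eq_of_mul_eq_one_right (by rw [← map_mul, hm, map_one])
    refine (hXmem _).2 ⟨?_, ?_⟩
    · have hux : Commute u (D.φ xm) := mem_centralizer_singleton_iff.1 huC
      have hcc : Commute (D.φ m * u * D.φ m) (D.φ m * D.φ xm * D.φ m) := by
        have := hux.map (MulAut.conj (D.φ m)).toMonoidHom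
        simpa [MulAut.conj_apply, hmi] using this
      rw [hC, mem_centralizer_singleton_iff]
      rw [← map_mul, ← map_mul] at hcc
      rcases hmx with h | h
      · rw [h] at hcc; exact hcc.eq
      · rw [h, map_inv] at hcc; exact (Commute.inv_right_iff.1 hcc).eq
    · rw [show D.φ m * u * D.φ m = MulAut.conj (D.φ m) u by rw [MulAut.conj_apply, hmi], MulEquiv.orderOf_eq]
      exact huo
  have hzi : z * α1 * xm * (z * α1) = xm⁻¹ := by
    rw [← hxi, show z * α1 * xm * (z * α1) = z * (α1 * xm) * (z * α1) by simp only [mul_assoc], ← z_comm,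
      show α1 * xm * z * (z * α1) = α1 * xm * (z * z) * α1 by simp only [mul_assoc], hz2, mul_one]
  have hnfix : ∀ u ∈ X, u * t = t * u → ∀ b : M, (b = α1 ∨ b = z * α1) → u * D.φ b = D.φ b * u → u = 1 := by
    intro u hu hut b hb hub
    obtain ⟨huC, huo⟩ := (hXmem u).1 hu
    obtain ⟨m, hm, rfl⟩ := hboth u huC hut
    have hmb : m * α1 = α1 * m := by
      have h : m * b = b * m := D.inj (by rw [map_mul, map_mul]; exact hub)
      rcases hb with rfl | rfl
      · exact h
      · have := congrArg (z * ·) h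
        simp only [← mul_assoc, ← z_comm m] at this
        simpa [hz2, mul_assoc, ← z_comm] using this
    rcases hfix m ⟨hm, hmb⟩ with rfl | rfl
    · exact map_one _
    · exfalso
      rw [orderOf_injective D.φ D.inj, orderOf_eq_prime (by rw [pow_two]; exact hz2) hz1] at huo
      exact absurd huo (by decide)
  obtain ⟨y, hyX, hy1, b, hb, hyb⟩ : ∃ y ∈ X, y ≠ 1 ∧ ∃ b : M, (b = α1 ∨ b = z * α1) ∧ y * D.φ b = D.φ b * y := by
    by_contra hcon
    push Not at hcon
    have inv1 := inverts_of_no_fixed X (s := D.φ α1) (by rw [← map_mul, h12, map_one]) (hnorm α1 h12 (Or.inr hxi))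
      (fun u hu h => by by_contra h1; exact hcon u hu h1 α1 (Or.inl rfl) h.symm)
    have inv2 := inverts_of_no_fixed X (s := D.φ (z * α1)) (by rw [← map_mul, i6, map_one])
      (hnorm _ i6 (Or.inr hzi)) (fun u hu h => by by_contra h1; exact hcon u hu h1 _ (Or.inr rfl) h.symm)
    refine hbig (le_antisymm (hcount C le_rfl ?_) ?_)
    · intro u hu
      have hX : ∀ v ∈ X, v * t = t * v := by
        intro v hv
        have hzv : D.φ z * v * D.φ z = v := by
          have h2 := inv2 _ (inv_mem hv)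
          rw [inv_inv, ← inv1 v hv] at h2
          calc D.φ z * v * D.φ z = D.φ (z * α1 * α1) * v * D.φ (α1 * (z * α1)) := by rw [i7, i8]
            _ = D.φ (z * α1) * (D.φ α1 * v * D.φ α1) * D.φ (z * α1) := by
                simp only [map_mul, mul_assoc]
            _ = v := h2
        calc v * t = t * t * (v * t) := by rw [ht, ← map_mul, hz2, map_one, one_mul]
          _ = t * (t * v * t) := by simp only [mul_assoc]
          _ = t * v := by rw [ht, hzv]
      have hidx := MonoidHom.ker_transferSylow_isComplement' Q hQc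
      obtain ⟨⟨a, q⟩, hau⟩ := hidx.2 (⟨u, hu⟩ : C)
      have hau' : ((a : C) : G) * ((q : C) : G) = u := congrArg Subtype.val hau
      have hq : ((q : C) : G) * t = t * ((q : C) : G) := by
        obtain ⟨k, hk⟩ := mem_zpowers_iff.1 (hQt.le q.2)
        rw [← hk, SubgroupClass.coe_zpow]
        exact ((Commute.refl t).zpow_left k).eq
      rw [← hau', mul_assoc, hq, ← mul_assoc, hX ((a : C) : G) ⟨a, a.2, rfl⟩, mul_assoc]
    · rw [← hcent, ← Fintype.card_coe, ← Nat.card_eq_fintype_card]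
      refine Nat.card_le_card_of_injective (fun m => (⟨D.φ m.1, ?_⟩ : C)) fun m n h => Subtype.ext (D.inj (congrArg Subtype.val h))
      rw [hC, mem_centralizer_singleton_iff, ← map_mul, ← map_mul, (Finset.mem_filter.1 m.2).2]
  obtain ⟨hyC, hyo⟩ := (hXmem y).1 hyX
  have hb2 : b * b = 1 := by rcases hb with rfl | rfl <;> assumption
  have hbb : D.φ b * D.φ b = 1 := by rw [← map_mul, hb2, map_one]
  have htt : t * t = 1 := by rw [ht, ← map_mul, hz2, map_one]
  have hinv : t * y * t = y⁻¹ := by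
    refine inverts_of_no_fixed (X ⊓ centralizer ({D.φ b} : Set G)) htt ?_ ?_ y
      ⟨hyX, mem_centralizer_singleton_iff.2 hyb⟩
    · rintro u ⟨hu, hub⟩
      refine ⟨hnorm z hz2 (Or.inl (by rw [← z_comm xm, mul_assoc, hz2, mul_one])) u hu, mem_centralizer_singleton_iff.2 ?_⟩
      have hub' := mem_centralizer_singleton_iff.1 hub
      have htb : t * D.φ b = D.φ b * t := by rw [ht, ← map_mul, ← map_mul, z_comm]
      calc t * u * t * D.φ b = t * (u * D.φ b) * t := by rw [mul_assoc, htb]; simp only [mul_assoc]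
        _ = D.φ b * (t * u * t) := by rw [hub', ← mul_assoc t, htb]; simp only [mul_assoc]
    · rintro u ⟨hu, hub⟩ hut
      exact hnfix u hu hut.symm b hb (mem_centralizer_singleton_iff.1 hub)
  have hxy : Commute (D.φ xm) y := (mem_centralizer_singleton_iff.1 hyC).symm
  have hxo : Odd (orderOf (D.φ xm)) := ((hXmem _).1 hxX).2
  have hxne : D.φ xm ≠ 1 := fun h => hx1 (D.inj (by rw [h, map_one]))
  have hxz : D.φ xm * t = t * D.φ xm := by rw [ht, ← map_mul, ← map_mul, z_comm]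
  rcases hb with rfl | rfl
  · exact D.good_of_pair hxz (by rw [← map_mul, ← map_mul, hxi, map_inv]) hxo hxne hyb hinv hyo hy1 hxy
  · -- exchange the two centralisers
    set h := D.φ cM * D.g ^ 4 with hh
    have g7 := D.g_pow
    have hza : h * D.φ (z * α1) * h⁻¹ = D.φ z := by
      have h3 : D.g ^ 3 * D.φ z * (D.g ^ 3)⁻¹ = D.φ (z * α1) := D.cube
      rw [hh, ← h3]
      calc D.φ cM * D.g ^ 4 * (D.g ^ 3 * D.φ z * (D.g ^ 3)⁻¹) * (D.φ cM * D.g ^ 4)⁻¹
          = D.φ cM * (D.g ^ 7 * D.φ z * (D.g ^ 7)⁻¹) * (D.φ cM)⁻¹ := by group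
        _ = D.φ z := by rw [g7, one_mul, inv_one, mul_one, conj_cM_z]
    have hzt : h * t * h⁻¹ = D.φ α1 := by
      rw [hh, ← i4]
      rw [show D.φ cM * D.g ^ 4 * t * (D.φ cM * D.g ^ 4)⁻¹ =
        D.φ cM * (D.g ^ 4 * D.φ z * (D.g ^ 4)⁻¹) * (D.φ cM)⁻¹ by rw [ht]; group, D.fourth]
      simp only [map_mul, map_inv]
    have conjeq : ∀ a b c d : G, a * b = c * d → h * a * h⁻¹ * (h * b * h⁻¹) = h * c * h⁻¹ * (h * d * h⁻¹) :=
      fun a b c d e => by
        calc h * a * h⁻¹ * (h * b * h⁻¹) = h * (a * b) * h⁻¹ := by group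
          _ = h * (c * d) * h⁻¹ := by rw [e]
          _ = _ := by group
    have conjinv : ∀ a b : G, a * b * a = b⁻¹ → h * a * h⁻¹ * (h * b * h⁻¹) * (h * a * h⁻¹) = (h * b * h⁻¹)⁻¹ :=
      fun a b e => by
        calc h * a * h⁻¹ * (h * b * h⁻¹) * (h * a * h⁻¹) = h * (a * b * a) * h⁻¹ := by group
          _ = _ := by rw [e]; group
    have hord : ∀ u : G, orderOf (h * u * h⁻¹) = orderOf u := fun u =>
      (by rw [← MulAut.conj_apply, MulEquiv.orderOf_eq])
    refine D.good_of_pair (x := h * y * h⁻¹) (y := h * D.φ xm * h⁻¹) ?_ ?_ (by rw [hord]; exact hyo)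
      (fun e => hy1 (conj_eq_one_iff.1 e)) ?_ ?_ (by rw [hord]; exact hxo) (fun e => hxne (conj_eq_one_iff.1 e))
      (conjeq _ _ _ _ hxy.eq.symm)
    · rw [← hza]; exact conjeq _ _ _ _ hyb
    · rw [← hzt]; exact conjinv _ _ hinv
    · rw [← hzt]; exact conjeq _ _ _ _ hxz
    · rw [← hza]; exact conjinv _ _ (by rw [← map_mul, ← map_mul, hzi, map_inv])

end Amalgam

end Cfsg.Agent.JankoRecog
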