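import Cfsg.Agent.Lib.Presented.Table
import Mathlib.Tactic.Linarith
import Mathlib.Tactic.Ring
import Mathlib.Algebra.Order.Ring.Int
import Mathlib.Algebra.Order.Ring.Abs
import Mathlib.Data.Int.Order.Lemmas
import Mathlib.Tactic.LinearCombination

/-!
# The exceptional-character equation has no solution with quotient one modulo thirty

`a, b, c` are signed degrees with sum `-1` and `p, q, r` the signed values at the involution.
-/

set_option autoImplicit false
set_option Elab.async false

namespace Cfsg.Agent.JankoRecog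

open Cfsg.Agent.Presented (force force_eq)

/-- Makes the kernel evaluate an integer before it is substituted. -/
noncomputable def forceZ {α : Sort*} (z : ℤ) (k : ℤ → α) : α :=
  Int.rec (fun n => force n fun m => k (Int.ofNat m)) (fun n => force n fun m => k (Int.negSucc m)) z

@[simp] theorem forceZ_eq {α : Sort*} (z : ℤ) (k : ℤ → α) : forceZ z k = k z := by
  cases z <;> simp [forceZ]

/-- The numerator of `1 + p²/a + q²/b + r²/c`. -/
def num (p q r a b c : ℤ) : ℤ :=
  Int.add (Int.mul a (Int.add (Int.mul c (Int.add b (Int.mul q q))) (Int.mul (Int.mul r r) b))) (Int.mul (Int.mul p p) (Int.mul b c))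

/-- The quotient is not one modulo thirty. -/
noncomputable def bad (p q r a b c : ℤ) : Bool :=
  forceZ a fun a => forceZ b fun b => forceZ c fun c => forceZ (num p q r a b c) fun n =>
    forceZ (Int.mul 720 (Int.mul a (Int.mul b c))) fun d =>
      (!(Int.emod d n == 0)) || (!(Int.emod (Int.ediv d n) 30 == 1))

/-- All `i < n` satisfy `f`. -/
noncomputable def allB (f : ℕ → Bool) (n : ℕ) : Bool := Nat.rec (motive := fun _ => Bool) true (fun i acc => f i && acc) n

theorem allB_spec {f : ℕ → Bool} : ∀ {n : ℕ}, allB f n = true → ∀ i < n, f i = true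
  | 0, _, i, hi => absurd hi (Nat.not_lt_zero i)
  | n + 1, h, i, hi => by
    have h' : (f n && allB f n) = true := h
    rw [Bool.and_eq_true] at h'
    rcases Nat.lt_succ_iff_lt_or_eq.1 hi with hlt | rfl
    · exact allB_spec h'.2 i hlt
    · exact h'.1

/-- The `i`-th number congruent to `p` modulo eight in the range. -/
def nth (p : ℤ) (i : ℕ) : ℤ := Int.emod p 8 + 8 * ((i : ℤ) - 140)

/-- One row of the box. -/
noncomputable def boxRow (p q r : ℤ) (skip : ℕ → ℕ → Bool) (i : ℕ) : Bool :=
  forceZ (nth p i) fun a => allB (fun j => skip i j || forceZ (nth q j) fun b =>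
    forceZ (Int.sub (Int.sub (-1) a) b) fun c => Nat.blt 1100 c.natAbs || bad p q r a b c) 281

/-- The check on the rows `lo, …, lo + len - 1`. -/
noncomputable def boxOK (p q r : ℤ) (skip : ℕ → ℕ → Bool) (lo len : ℕ) : Bool :=
  allB (fun i => boxRow p q r skip (Nat.add lo i)) len

theorem boxOK_spec {p q r : ℤ} {skip : ℕ → ℕ → Bool} {lo len : ℕ} (h : boxOK p q r skip lo len = true) {i : ℕ}
    (h1 : lo ≤ i) (h2 : i < lo + len) : boxRow p q r skip i = true := by
  have e := allB_spec h (i - lo) (by omega)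
  have : Nat.add lo (i - lo) = i := by show lo + (i - lo) = i; omega
  rwa [this] at e

theorem nth_surj (p a : ℤ) (h : a % 8 = p % 8) (hb : |a| ≤ 1100) : ∃ i < 281, nth p i = a := by
  rw [abs_le] at hb
  refine ⟨(a / 8 + 140).toNat, ?_, ?_⟩
  · omega
  · show p % 8 + 8 * (((a / 8 + 140).toNat : ℤ) - 140) = a
    omega

theorem bad_spec {p q r a b c k : ℤ} (hne : num p q r a b c ≠ 0)
    (h : k * num p q r a b c = 720 * (a * b * c)) (hb : bad p q r a b c = true) : k % 30 ≠ 1 := by
  intro hk
  simp only [bad, forceZ_eq, Bool.or_eq_true, Bool.not_eq_true', beq_eq_false_iff_ne] at hb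
  change Int.emod (720 * (a * (b * c))) _ ≠ 0 ∨ Int.emod (Int.ediv (720 * (a * (b * c))) _) 30 ≠ 1 at hb
  rw [show 720 * (a * (b * c)) = k * num p q r a b c by rw [h]; ring] at hb
  rcases hb with hb | hb
  · exact hb (Int.mul_emod_left _ _)
  · exact hb (by show (k * _) / _ % 30 = 1; rw [Int.mul_ediv_cancel _ hne]; exact hk)

theorem box₁_0 : boxOK 1 (-5) (-5) (fun i j => Nat.blt 419 (i + 2 * j)) 0 94 = true := by decide +kernel

theorem box₁_1 : boxOK 1 (-5) (-5) (fun i j => Nat.blt 419 (i + 2 * j)) 94 94 = true := by decide +kernel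

theorem box₁_2 : boxOK 1 (-5) (-5) (fun i j => Nat.blt 419 (i + 2 * j)) 188 93 = true := by decide +kernel

theorem box₁ {i : ℕ} (hi : i < 281) :
    boxRow 1 (-5) (-5) (fun i j => Nat.blt 419 (i + 2 * j)) i = true := by
  rcases Nat.lt_or_ge i 94 with h0 | h0
  · exact boxOK_spec box₁_0 (by omega) h0
  rcases Nat.lt_or_ge i 188 with h1 | h1
  · exact boxOK_spec box₁_1 (by omega) h1
  exact boxOK_spec box₁_2 (by omega) (by omega)

theorem box₂_0 : boxOK (-2) (-2) (-5) (fun i j => Nat.blt j i) 0 94 = true := by decide +kernel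

theorem box₂_1 : boxOK (-2) (-2) (-5) (fun i j => Nat.blt j i) 94 94 = true := by decide +kernel

theorem box₂_2 : boxOK (-2) (-2) (-5) (fun i j => Nat.blt j i) 188 93 = true := by decide +kernel

theorem box₂ {i : ℕ} (hi : i < 281) :
    boxRow (-2) (-2) (-5) (fun i j => Nat.blt j i) i = true := by
  rcases Nat.lt_or_ge i 94 with h0 | h0
  · exact boxOK_spec box₂_0 (by omega) h0
  rcases Nat.lt_or_ge i 188 with h1 | h1
  · exact boxOK_spec box₂_1 (by omega) h1
  exact boxOK_spec box₂_2 (by omega) (by omega)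

theorem box₃_0 : boxOK 1 (-2) (-8) (fun _ _ => false) 0 57 = true := by decide +kernel

theorem box₃_1 : boxOK 1 (-2) (-8) (fun _ _ => false) 57 56 = true := by decide +kernel

theorem box₃_2 : boxOK 1 (-2) (-8) (fun _ _ => false) 113 56 = true := by decide +kernel

theorem box₃_3 : boxOK 1 (-2) (-8) (fun _ _ => false) 169 56 = true := by decide +kernel

theorem box₃_4 : boxOK 1 (-2) (-8) (fun _ _ => false) 225 56 = true := by decide +kernel

theorem box₃ {i : ℕ} (hi : i < 281) :
    boxRow 1 (-2) (-8) (fun _ _ => false) i = true := by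
  rcases Nat.lt_or_ge i 57 with h0 | h0
  · exact boxOK_spec box₃_0 (by omega) h0
  rcases Nat.lt_or_ge i 113 with h1 | h1
  · exact boxOK_spec box₃_1 (by omega) h1
  rcases Nat.lt_or_ge i 169 with h2 | h2
  · exact boxOK_spec box₃_2 (by omega) h2
  rcases Nat.lt_or_ge i 225 with h3 | h3
  · exact boxOK_spec box₃_3 (by omega) h3
  exact boxOK_spec box₃_4 (by omega) (by omega)

theorem line₁ : allB (fun i => bad 1 (-1) (-9) (-1 - 2 * nth (-1) i) (nth (-1) i) (nth (-1) i)) 281 = true := by
  decide +kernel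

theorem line₂ : allB (fun i => bad 2 (-6) (-5) (nth 2 i) (nth 2 i) (-1 - 2 * nth 2 i)) 281 = true := by
  decide +kernel

theorem line₃ : allB (fun i => bad 1 (-2) (-8) (1 + 8 * ((i : ℤ) - 4000)) (63 - (1 + 8 * ((i : ℤ) - 4000))) (-64)) 8000 = true := by
  decide +kernel

/-! ### Outside the box -/

theorem num_eq (p q r a b c : ℤ) :
    num p q r a b c = a * b * c + p * p * b * c + q * q * a * c + r * r * a * b := by
  show a * (c * (b + q * q) + r * r * b) + p * p * (b * c) = _
  ring

theorem num_swap (p q r a b c : ℤ) : num q p r b a c = num p q r a b c := by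
  simp only [num_eq]; ring

theorem num_rot (p q r a b c : ℤ) : num q r p b c a = num p q r a b c := by
  simp only [num_eq]; ring

/-- Two large degrees, with `1 + p²/a` bounded away from zero, are at most 1100. -/
theorem le_of_large {p q r a b c k D : ℤ} (ha : a ≠ 0) (hk : 0 < k)
    (h : k * num p q r a b c = 720 * (a * b * c)) (hsq : b * b + c * c ≤ 120 * k)
    (hb : 550 ≤ |b|) (hc : 550 ≤ |c|) (hD : D * |a| ≤ 1000 * |a + p * p|)
    (hQ : 44000 + 1000 * (q * q + r * r) ≤ 550 * D) : |b| ≤ 1100 ∧ |c| ≤ 1100 := by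
  have e : num p q r a b c = (a + p * p) * (b * c) + a * (q * q * c + r * r * b) := by
    rw [num_eq]; ring
  have t1 : |(a + p * p) * (b * c)| ≤ |num p q r a b c| + |a * (q * q * c + r * r * b)| := by
    have := abs_sub (num p q r a b c) (a * (q * q * c + r * r * b))
    nth_rw 1 [e] at this
    rwa [add_sub_cancel_right] at this
  rw [abs_mul (a + p * p), abs_mul b, abs_mul a] at t1
  have t2 : |q * q * c + r * r * b| ≤ q * q * |c| + r * r * |b| := by
    refine (abs_add_le _ _).trans (le_of_eq ?_)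
    rw [abs_mul, abs_mul (r * r), abs_mul_self, abs_mul_self]
  have A0 := abs_nonneg a
  have u1 : 550 * (q * q * |c|) ≤ q * q * (|b| * |c|) := by
    nlinarith [mul_le_mul_of_nonneg_right hb (mul_nonneg (mul_self_nonneg q) (abs_nonneg c))]
  have u2 : 550 * (r * r * |b|) ≤ r * r * (|b| * |c|) := by
    nlinarith [mul_le_mul_of_nonneg_right hc (mul_nonneg (mul_self_nonneg r) (abs_nonneg b))]
  have P0 : 0 ≤ |b| * |c| := mul_nonneg (abs_nonneg b) (abs_nonneg c)
  have t3 : 550 * (|a| * |q * q * c + r * r * b|) ≤ (q * q + r * r) * (|a| * (|b| * |c|)) := by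
    calc 550 * (|a| * |q * q * c + r * r * b|) = |a| * (550 * |q * q * c + r * r * b|) := by ring
      _ ≤ |a| * ((q * q + r * r) * (|b| * |c|)) := mul_le_mul_of_nonneg_left (by linarith) A0
      _ = _ := by ring
  have t4 := mul_le_mul_of_nonneg_right hD P0
  have t5 := mul_le_mul_of_nonneg_right hQ (mul_nonneg A0 P0)
  have low : 44000 * (|a| * (|b| * |c|)) ≤ 550000 * |num p q r a b c| := by linarith
  have hke : k * |num p q r a b c| = 720 * (|a| * (|b| * |c|)) := by
    have := congrArg (fun x : ℤ => |x|) h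
    simp only [abs_mul, abs_of_pos hk] at this
    rw [this]; norm_num; ring
  have pos : 0 < |a| * (|b| * |c|) := mul_pos (abs_pos.2 ha) (mul_pos (by linarith) (by linarith))
  have hk9 : k ≤ 9000 := by
    by_contra hcon
    have := mul_le_mul_of_nonneg_left low hk.le
    have := mul_lt_mul_of_pos_right (not_le.1 hcon) pos
    linarith
  constructor <;> by_contra hcon
  · nlinarith [abs_mul_abs_self b, mul_self_nonneg c]
  · nlinarith [abs_mul_abs_self c, mul_self_nonneg b]

theorem base_one {a : ℤ} (h : a % 8 = 1) (h1 : 1 < |a|) : 800 * |a| ≤ 1000 * |a + 1 * 1| := by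
  rcases le_total 0 a with h0 | h0
  · rw [abs_of_nonneg h0] at *; rw [abs_of_nonneg (by omega)]; omega
  · rw [abs_of_nonpos h0] at *; rw [abs_of_nonpos (by omega)]; omega

theorem base_two {p a : ℤ} (hp : p * p = 4) (h : a % 8 = 6 ∨ a % 8 = 2) (h1 : 2 < |a|) :
    330 * |a| ≤ 1000 * |a + p * p| := by
  rw [hp]
  rcases le_total 0 a with h0 | h0
  · rw [abs_of_nonneg h0] at *; rw [abs_of_nonneg (by omega)]; omega
  · rw [abs_of_nonpos h0] at *; rw [abs_of_nonpos (by omega)]; omega

theorem base_five {a : ℤ} (h : a % 8 = 3) : 137 * |a| ≤ 1000 * |a + -5 * -5| := by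
  rcases le_total 0 a with h0 | h0
  · rw [abs_of_nonneg h0, abs_of_nonneg (by omega)]; omega
  · rw [abs_of_nonpos h0]
    rcases le_total 0 (a + -5 * -5) with h2 | h2
    · rw [abs_of_nonneg h2]; omega
    · rw [abs_of_nonpos h2]; omega

theorem base_eight {a : ℤ} (h : a % 8 = 0) (h1 : a ≠ -64) : 110 * |a| ≤ 1000 * |a + -8 * -8| := by
  rcases le_total 0 a with h0 | h0
  · rw [abs_of_nonneg h0, abs_of_nonneg (by omega)]; omega
  · rw [abs_of_nonpos h0]
    rcases le_total 0 (a + -8 * -8) with h2 | h2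
    · rw [abs_of_nonneg h2]; omega
    · rw [abs_of_nonpos h2]; omega

theorem small {p q r a b c k Da Db Dc : ℤ} (ha : a ≠ 0) (hb : b ≠ 0) (hc : c ≠ 0) (hk : 0 < k)
    (h : k * num p q r a b c = 720 * (a * b * c)) (hsum : a + b + c = -1)
    (hsq : a * a + b * b + c * c ≤ 120 * k)
    (h1 : Da * |a| ≤ 1000 * |a + p * p|) (g1 : 44000 + 1000 * (q * q + r * r) ≤ 550 * Da)
    (h2 : Db * |b| ≤ 1000 * |b + q * q|) (g2 : 44000 + 1000 * (p * p + r * r) ≤ 550 * Db)
    (h3 : Dc * |c| ≤ 1000 * |c + r * r|) (g3 : 44000 + 1000 * (p * p + q * q) ≤ 550 * Dc) :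
    |a| ≤ 1100 ∧ |b| ≤ 1100 ∧ |c| ≤ 1100 := by
  have qa := mul_self_nonneg a
  have qb := mul_self_nonneg b
  have qc := mul_self_nonneg c
  have fA : 550 ≤ |b| → 550 ≤ |c| → |b| ≤ 1100 ∧ |c| ≤ 1100 := fun x y =>
    le_of_large ha hk h (by linarith) x y h1 g1
  have fB : 550 ≤ |a| → 550 ≤ |c| → |a| ≤ 1100 ∧ |c| ≤ 1100 := fun x y =>
    le_of_large hb hk (by rw [num_swap, h]; ring) (by linarith) x y h2 g2
  have fC : 550 ≤ |a| → 550 ≤ |b| → |a| ≤ 1100 ∧ |b| ≤ 1100 := fun x y =>
    le_of_large (q := p) (r := q) hc hk (by rw [num_rot r p q c a b] at *; rw [h]; ring) (by linarith) x y h3 g3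
  have ea : |a| ≤ |b| + |c| + 1 := by
    rw [show a = -(b + c + 1) by omega, abs_neg]
    exact (abs_add_le _ _).trans (add_le_add (abs_add_le _ _) (by norm_num))
  have eb : |b| ≤ |a| + |c| + 1 := by
    rw [show b = -(a + c + 1) by omega, abs_neg]
    exact (abs_add_le _ _).trans (add_le_add (abs_add_le _ _) (by norm_num))
  have ec : |c| ≤ |a| + |b| + 1 := by
    rw [show c = -(a + b + 1) by omega, abs_neg]
    exact (abs_add_le _ _).trans (add_le_add (abs_add_le _ _) (by norm_num))
  omega

/-- Values `1, -5, -5`. -/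
theorem no_one_five_five {a b c k : ℤ} (hk : 0 < k) (h : k * num 1 (-5) (-5) a b c = 720 * (a * b * c))
    (hne : num 1 (-5) (-5) a b c ≠ 0) (hsum : a + b + c = -1) (hsq : a * a + b * b + c * c ≤ 120 * k)
    (ma : a % 8 = 1) (mb : b % 8 = 3) (mc : c % 8 = 3) (la : 1 < |a|) : k % 30 ≠ 1 := by
  obtain ⟨sa, sb, sc⟩ := small (by omega) (by omega) (by omega) hk h hsum hsq (base_one ma la) (by norm_num)
    (base_five mb) (by norm_num) (base_five mc) (by norm_num)
  wlog hbc : b ≤ c generalizing b c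
  · refine this (b := c) (c := b) ?_ ?_ (by omega) (by linarith) mc mb sc sb (by omega)
    · rw [show num 1 (-5) (-5) a c b = num 1 (-5) (-5) a b c by simp only [num_eq]; ring, h]; ring
    · rwa [show num 1 (-5) (-5) a c b = num 1 (-5) (-5) a b c by simp only [num_eq]; ring]
  obtain ⟨i, hi, ei⟩ := nth_surj 1 a (by omega) sa
  obtain ⟨j, hj, ej⟩ := nth_surj (-5) b (by omega) sb
  have := allB_spec (box₁ hi |> fun e => by simpa only [boxRow, forceZ_eq] using e) j hj
  simp only [Bool.or_eq_true, Nat.blt_eq, ei, ej] at this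
  rcases this with h' | h' | h'
  · exfalso
    have ei' : a = 1 + 8 * ((i : ℤ) - 140) := ei.symm
    have ej' : b = 3 + 8 * ((j : ℤ) - 140) := ej.symm
    omega
  · exfalso
    change 1100 < (-1 - a - b).natAbs at h'
    rw [abs_le] at sc
    omega
  · rw [show Int.sub (Int.sub (-1) a) b = c from (by show -1 - a - b = c; omega)] at h'
    exact bad_spec hne h h'

/-- Values `-2, -2, -5`. -/
theorem no_two_two_five {a b c k : ℤ} (hk : 0 < k) (h : k * num (-2) (-2) (-5) a b c = 720 * (a * b * c))
    (hne : num (-2) (-2) (-5) a b c ≠ 0) (hsum : a + b + c = -1) (hsq : a * a + b * b + c * c ≤ 120 * k)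
    (ma : a % 8 = 6) (mb : b % 8 = 6) (mc : c % 8 = 3) (la : 2 < |a|) (lb : 2 < |b|) : k % 30 ≠ 1 := by
  obtain ⟨sa, sb, sc⟩ := small (by omega) (by omega) (by omega) hk h hsum hsq
    (base_two (by norm_num) (Or.inl ma) la) (by norm_num) (base_two (by norm_num) (Or.inl mb) lb) (by norm_num)
    (base_five mc) (by norm_num)
  wlog hab : a ≤ b generalizing a b
  · refine this (a := b) (b := a) ?_ ?_ (by omega) (by linarith) mb ma lb la sb sa (by omega)
    · rw [num_swap, h]; ring
    · rwa [num_swap]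
  obtain ⟨i, hi, ei⟩ := nth_surj (-2) a (by omega) sa
  obtain ⟨j, hj, ej⟩ := nth_surj (-2) b (by omega) sb
  have := allB_spec (box₂ hi |> fun e => by simpa only [boxRow, forceZ_eq] using e) j hj
  simp only [Bool.or_eq_true, Nat.blt_eq, ei, ej] at this
  rcases this with h' | h' | h'
  · exfalso
    have ei' : a = 6 + 8 * ((i : ℤ) - 140) := ei.symm
    have ej' : b = 6 + 8 * ((j : ℤ) - 140) := ej.symm
    omega
  · exfalso
    change 1100 < (-1 - a - b).natAbs at h'
    rw [abs_le] at sc
    omega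
  · rw [show Int.sub (Int.sub (-1) a) b = c from (by show -1 - a - b = c; omega)] at h'
    exact bad_spec hne h h'

/-- Values `1, -2, -8`. -/
theorem no_one_two_eight {a b c k : ℤ} (hk : 0 < k) (h : k * num 1 (-2) (-8) a b c = 720 * (a * b * c))
    (hne : num 1 (-2) (-8) a b c ≠ 0) (hsum : a + b + c = -1) (hsq : a * a + b * b + c * c ≤ 120 * k)
    (ma : a % 8 = 1) (mb : b % 8 = 6) (mc : c % 8 = 0) (la : 1 < |a|) (lb : 2 < |b|) (lc : c ≠ 0) :
    k % 30 ≠ 1 := by
  rcases eq_or_ne c (-64) with rfl | hc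
  · obtain rfl : b = 63 - a := by omega
    have hkey : k * (3 * a + 63) = 720 * (a * (63 - a)) := by
      rw [num_eq] at h
      linarith
    have hab : 2 * (|a| * |63 - a|) ≤ 120 * k := by
      nlinarith [mul_self_nonneg (|a| - |63 - a|), abs_mul_abs_self a, abs_mul_abs_self (63 - a)]
    have he : k * |3 * a + 63| = 720 * (|a| * |63 - a|) := by
      have := congrArg (fun x : ℤ => |x|) hkey
      simp only [abs_mul, abs_of_pos hk] at this
      rw [this]; norm_num
    have h43 : |3 * a + 63| ≤ 43200 := by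
      by_contra hcon
      have hpos : 0 < |a| * |63 - a| := mul_pos (by linarith) (abs_pos.2 (by omega))
      have := mul_lt_mul_of_pos_left (not_le.1 hcon) hk
      linarith
    rw [abs_le] at h43
    obtain ⟨i, hi, rfl⟩ : ∃ i : ℕ, i < 8000 ∧ 1 + 8 * ((i : ℤ) - 4000) = a :=
      ⟨((a - 1) / 8 + 4000).toNat, by omega, by omega⟩
    exact bad_spec hne h (allB_spec line₃ i hi)
  obtain ⟨sa, sb, sc⟩ := small (by omega) (by omega) lc hk h hsum hsq
    (base_one ma la) (by norm_num) (base_two (by norm_num) (Or.inl mb) lb) (by norm_num)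
    (base_eight mc hc) (by norm_num)
  obtain ⟨i, hi, ei⟩ := nth_surj 1 a (by omega) sa
  obtain ⟨j, hj, ej⟩ := nth_surj (-2) b (by omega) sb
  have := allB_spec (box₃ hi |> fun e => by simpa only [boxRow, forceZ_eq] using e) j hj
  simp only [Bool.or_eq_true, Nat.blt_eq, ei, ej] at this
  rcases this with h' | h' | h'
  · exact absurd h' (by simp)
  · exfalso
    change 1100 < (-1 - a - b).natAbs at h'
    rw [abs_le] at sc
    omega
  · rw [show Int.sub (Int.sub (-1) a) b = c from (by show -1 - a - b = c; omega)] at h'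
    exact bad_spec hne h h'

/-- Values `1, -1, -9`, the last two degrees equal. -/
theorem no_one_one_nine {a b k : ℤ} (hk : 0 < k) (h : k * num 1 (-1) (-9) a b b = 720 * (a * b * b))
    (hne : num 1 (-1) (-9) a b b ≠ 0) (hsum : a + b + b = -1) (hsq : a * a + b * b + b * b ≤ 120 * k)
    (ma : a % 8 = 1) (mb : b % 8 = 7) (la : 1 < |a|) : k % 30 ≠ 1 := by
  have sb : |b| ≤ 1100 := by
    by_contra hcon
    have := le_of_large (by omega) hk h (by linarith [mul_self_nonneg a]) (by omega) (by omega)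
      (base_one ma la) (by norm_num)
    omega
  obtain ⟨j, hj, rfl⟩ := nth_surj (-1) b (by omega) sb
  obtain rfl : a = -1 - 2 * nth (-1) j := by omega
  exact bad_spec hne h (allB_spec line₁ j hj)

/-- Values `2, -6, -5`, the first two degrees equal. -/
theorem no_two_six_five {a c k : ℤ} (hk : 0 < k) (h : k * num 2 (-6) (-5) a a c = 720 * (a * a * c))
    (hne : num 2 (-6) (-5) a a c ≠ 0) (hsum : a + a + c = -1) (hsq : a * a + a * a + c * c ≤ 120 * k)
    (ma : a % 8 = 2) (la : 2 < |a|) : k % 30 ≠ 1 := by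
  have sb : |a| ≤ 1100 := by
    by_contra hcon
    have hc : 550 ≤ |c| := by
      rw [show c = -(a + a + 1) by omega, abs_neg]
      rcases le_total 0 a with h0 | h0
      · rw [abs_of_nonneg (by omega)]; rw [abs_of_nonneg h0] at hcon; omega
      · rw [abs_of_nonpos h0] at hcon; rw [abs_of_nonpos (by omega)]; omega
    have := le_of_large (by omega) hk h (by linarith [mul_self_nonneg a]) (by omega) hc
      (base_two (by norm_num) (Or.inr ma) la) (by norm_num)
    omega
  obtain ⟨j, hj, rfl⟩ := nth_surj 2 a (by omega) sb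
  obtain rfl : c = -1 - 2 * nth 2 j := by omega
  exact bad_spec hne h (allB_spec line₂ j hj)

end Cfsg.Agent.JankoRecog
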